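import Cfsg.Agent.H99.AS.Gen
import Cfsg.Agent.H500.AS.Plus
import Cfsg.Agent.H479.AS.CritLt
import Cfsg.Agent.H149.PGOGoal
import Cfsg.Agent.ClassicalGeometry.SpinorSign

/-!
# S3943, the row `PΩ⁺₈(3)` (helper99)

`y` of order 7, `z = r(e₁) r(e₂)` the involution which is `-1` on `C_V(y) = ⟨e₁, e₂⟩` and `1` on `[V, y]`.
-/

set_option autoImplicit false
set_option linter.unusedSectionVars false

namespace Cfsg.Agent.H99.AS.OThree

open Module QuadraticMap Matrix Cfsg.Agent.H518.DghpFix Cfsg.Agent.H518.DghpPrim Cfsg.Agent.H518.DghpMat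
  Cfsg.Agent.H518.SU Cfsg.Agent.LieClassical.OmegaReindex Cfsg.Agent.ClassicalGeometry
  Cfsg.Agent.ClassicalGeometry.Reflection Cfsg.Agent.ClassicalGeometry.SpinorSign Cfsg.Agent.H99.AS
  Cfsg.Agent.H489.AS Cfsg.Agent.H500.AS Cfsg.Agent.H965.AS

universe u

variable {F : Type} [Field F] [Fintype F]

/-- the representation -/
noncomputable abbrev rep (F : Type) [Field F] [Fintype F] := matRep (omHom (⇑(quadPlus 4 F)))

theorem finrank_V : finrank F (Fin 4 ⊕ Fin 4 → F) = 8 := by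
  rw [finrank_pi_fin]
  simp

theorem two_ne (hF : Fintype.card F = 3) : (2 : F) ≠ 0 := by
  intro h
  have h1 : ((Fintype.card F : ℕ) : F) = 0 := Nat.cast_card_eq_zero F
  rw [hF] at h1
  have h2 : (1 : F) = 0 := by
    calc (1 : F) = ((3 : ℕ) : F) - 2 := by push_cast; ring
      _ = 0 := by rw [h1, h, sub_zero]
  exact one_ne_zero h2

theorem eq_or_neg (hF : Fintype.card F = 3) {a b : F} (ha : a ≠ 0) (hb : b ≠ 0) : a = b ∨ a = -b := by
  have h1 := FiniteField.pow_card_sub_one_eq_one a ha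
  have h2 := FiniteField.pow_card_sub_one_eq_one b hb
  rw [hF] at h1 h2
  exact sq_eq_sq_iff_eq_or_eq_neg.1 (h1.trans h2.symm)

theorem ord_seven_three : orderOf ((3 : ℕ) : ZMod 7) = 2 * (4 - 1) := by
  rw [orderOf_eq_iff (by norm_num)]
  refine ⟨by decide, ?_⟩
  intro m hm h0
  have : m = 1 ∨ m = 2 ∨ m = 3 ∨ m = 4 ∨ m = 5 := by omega
  rcases this with rfl | rfl | rfl | rfl | rfl <;> decide

section Gen

variable {ι : Type} [Fintype ι] [DecidableEq ι] {Q : QuadraticForm F (ι → F)}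

/-- **The involution.** -/
theorem exists_z_gen (h2F : (2 : F) ≠ 0) {y : Cfsg.Omega F (⇑Q)} {e₁ e₂ : ι → F}
    (he₁ : e₁ ∈ fixS (matRep (omHom (⇑Q)) y)) (he₂ : e₂ ∈ fixS (matRep (omHom (⇑Q)) y)) (hQ₁ : Q e₁ ≠ 0)
    (hQ₂ : Q e₂ ≠ 0) (hQQ : Q e₁ = Q e₂) (h12 : polar (⇑Q) e₁ e₂ = 0) :
    ∃ z : Cfsg.Omega F (⇑Q), z * z = 1 ∧ y * z = z * y ∧
      (∀ v, matRep (omHom (⇑Q)) z v = -v → matRep (omHom (⇑Q)) y v = v) ∧
      finrank F (fixS (matRep (omHom (⇑Q)) z)) + 2 = Fintype.card ι := by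
  classical
  set φ := matRep (omHom (⇑Q)) with hφdef
  have hφ : Function.Injective φ := matRep_injective (omHom_injective _)
  have hφB : ∀ g u v, polar (⇑Q) (φ g u) (φ g v) = polar (⇑Q) u v := fun g u v => omHom_polar _ g u v
  have hp₁ : polar (⇑Q) e₁ e₁ ≠ 0 := by
    rw [Reflection.polar_self']
    exact mul_ne_zero h2F hQ₁
  -- the element
  obtain ⟨a, ha, hconj⟩ := exists_conj_reflIso h2F Q hQ₁ hQ₂ hQQ
  set r₁ := reflIso Q e₁ hQ₁ with hr₁
  set r₂ := reflIso Q e₂ hQ₂ with hr₂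
  set r := reflIso Q a ha with hr
  have hmem : r₁ * r₂ ∈ Cfsg.Omega F (⇑Q) := by
    have h1 := Subgroup.commutator_mem_commutator (Subgroup.mem_top r₁) (Subgroup.mem_top r)
    rw [commutatorElement_def, reflIso_inv, reflIso_inv, mul_assoc, mul_assoc] at h1
    rw [hconj, mul_assoc r]
    exact h1
  set z : Cfsg.Omega F (⇑Q) := ⟨r₁ * r₂, hmem⟩ with hz
  have hR : ∀ (e : ι → F) (he : Q e ≠ 0) (v : ι → F),
      ((reflIso Q e he : Matrix.GeneralLinearGroup (ι) F) : Matrix (ι) (ι) F) *ᵥ v =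
        v - ((Q e)⁻¹ * polar (⇑Q) e v) • e := fun e he v => by
    rw [coe_reflIso, reflectionMatrix_mulVec]
  have hφz : ∀ v, φ z v = v - ((Q e₁)⁻¹ * polar (⇑Q) e₁ v) • e₁ - ((Q e₂)⁻¹ * polar (⇑Q) e₂ v) • e₂ := by
    intro v
    have h1 : φ z v = ((r₁ * r₂ : Cfsg.isometryGroup F (⇑Q)) :
        Matrix.GeneralLinearGroup (ι) F).1 *ᵥ v := rfl
    rw [h1, coe_mul_mulVec, hR, hR, QuadraticMap.polar_sub_right, QuadraticMap.polar_smul_right, h12, smul_zero,
      sub_zero]
    abel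
  have hQ1' : (Q e₁)⁻¹ * polar (⇑Q) e₁ e₁ = 2 := by
    rw [Reflection.polar_self']; field_simp
  have hQ2' : (Q e₂)⁻¹ * polar (⇑Q) e₂ e₂ = 2 := by
    rw [Reflection.polar_self']; field_simp
  have h21 : polar (⇑Q) e₂ e₁ = 0 := by rw [polar_comm, h12]
  have hz1 : φ z e₁ = -e₁ := by
    rw [hφz, hQ1', h21, mul_zero, zero_smul, sub_zero, two_smul]; abel
  have hz2 : φ z e₂ = -e₂ := by
    rw [hφz, hQ2', h12, mul_zero, zero_smul, sub_zero, two_smul]; abel
  have hzz : z * z = 1 := by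
    apply hφ
    refine LinearMap.ext fun v => ?_
    rw [map_mul, Module.End.mul_apply, hφz v, map_sub, map_sub, map_smul, map_smul, hz1, hz2, hφz v, map_one]
    show _ = v
    rw [smul_neg, smul_neg]
    abel
  have hye : ∀ e ∈ fixS (φ y), ∀ v, polar (⇑Q) e (φ y v) = polar (⇑Q) e v := by
    intro e he v
    have h1 : φ y e = e := he
    calc polar (⇑Q) e (φ y v) = polar (⇑Q) (φ y e) (φ y v) := by rw [h1]
      _ = polar (⇑Q) e v := hφB y e v
  refine ⟨z, hzz, ?_, ?_, ?_⟩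
  · apply hφ
    refine LinearMap.ext fun v => ?_
    rw [map_mul, map_mul, Module.End.mul_apply, Module.End.mul_apply, hφz v, hφz (φ y v), map_sub, map_sub, map_smul,
      map_smul, show φ y e₁ = e₁ from he₁, show φ y e₂ = e₂ from he₂, hye e₁ he₁, hye e₂ he₂]
  · intro v hv
    have h1 : (2 : F) • v = ((Q e₁)⁻¹ * polar (⇑Q) e₁ v) • e₁ + ((Q e₂)⁻¹ * polar (⇑Q) e₂ v) • e₂ := by
      have h2 : φ z v = v - ((Q e₁)⁻¹ * polar (⇑Q) e₁ v) • e₁ - ((Q e₂)⁻¹ * polar (⇑Q) e₂ v) • e₂ := hφz v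
      rw [hv] at h2
      rw [two_smul]
      have h3 : v + v - (((Q e₁)⁻¹ * polar (⇑Q) e₁ v) • e₁ + ((Q e₂)⁻¹ * polar (⇑Q) e₂ v) • e₂) = 0 := by
        calc v + v - (((Q e₁)⁻¹ * polar (⇑Q) e₁ v) • e₁ + ((Q e₂)⁻¹ * polar (⇑Q) e₂ v) • e₂) =
            v + (v - ((Q e₁)⁻¹ * polar (⇑Q) e₁ v) • e₁ - ((Q e₂)⁻¹ * polar (⇑Q) e₂ v) • e₂) := by abel
          _ = v + -v := by rw [← h2]
          _ = 0 := add_neg_cancel v
      exact sub_eq_zero.1 h3
    have h2 : (2 : F) • v ∈ fixS (φ y) := by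
      rw [h1]
      exact (fixS (φ y)).add_mem ((fixS (φ y)).smul_mem _ he₁) ((fixS (φ y)).smul_mem _ he₂)
    have h3 : v ∈ fixS (φ y) := by
      have := (fixS (φ y)).smul_mem (2 : F)⁻¹ h2
      rwa [smul_smul, inv_mul_cancel₀ h2F, one_smul] at this
    exact h3
  · -- the dimension of the fixed space
    let f : (ι → F) →ₗ[F] (F × F) :=
      { toFun := fun v => (polar (⇑Q) e₁ v, polar (⇑Q) e₂ v)
        map_add' := fun v v' => by
          rw [QuadraticMap.polar_add_right, QuadraticMap.polar_add_right]; rfl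
        map_smul' := fun c v => by
          rw [QuadraticMap.polar_smul_right, QuadraticMap.polar_smul_right]; rfl }
    have hker : fixS (φ z) = LinearMap.ker f := by
      ext v
      rw [LinearMap.mem_ker]
      constructor
      · intro hv
        have h1 : φ z v = v := hv
        have h2 := congrArg (polar (⇑Q) e₁) h1
        have h3 := congrArg (polar (⇑Q) e₂) h1
        rw [hφz, QuadraticMap.polar_sub_right, QuadraticMap.polar_sub_right, QuadraticMap.polar_smul_right,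
          QuadraticMap.polar_smul_right, h12, smul_zero, sub_zero, Reflection.polar_self',
          smul_eq_mul] at h2
        rw [hφz, QuadraticMap.polar_sub_right, QuadraticMap.polar_sub_right, QuadraticMap.polar_smul_right,
          QuadraticMap.polar_smul_right, h21, smul_zero, sub_zero, Reflection.polar_self',
          smul_eq_mul] at h3
        have h4 : 2 * polar (⇑Q) e₁ v = 0 := by
          have h5 : (Q e₁)⁻¹ * polar (⇑Q) e₁ v * (2 * Q e₁) = 2 * polar (⇑Q) e₁ v := by field_simp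
          rw [h5] at h2
          linear_combination -h2
        have h5 : 2 * polar (⇑Q) e₂ v = 0 := by
          have h6 : (Q e₂)⁻¹ * polar (⇑Q) e₂ v * (2 * Q e₂) = 2 * polar (⇑Q) e₂ v := by field_simp
          rw [h6] at h3
          linear_combination -h3
        exact Prod.ext ((mul_eq_zero.1 h4).resolve_left h2F) ((mul_eq_zero.1 h5).resolve_left h2F)
      · intro hv
        have h1 : polar (⇑Q) e₁ v = 0 := congrArg Prod.fst hv
        have h2 : polar (⇑Q) e₂ v = 0 := congrArg Prod.snd hv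
        show φ z v = v
        rw [hφz, h1, h2, mul_zero, mul_zero, zero_smul, zero_smul, sub_zero, sub_zero]
    have hsurj : LinearMap.range f = ⊤ := by
      rw [LinearMap.range_eq_top]
      rintro ⟨s, t⟩
      have hp₂ : polar (⇑Q) e₂ e₂ ≠ 0 := by
        rw [Reflection.polar_self']
        exact mul_ne_zero h2F hQ₂
      refine ⟨(s / polar (⇑Q) e₁ e₁) • e₁ + (t / polar (⇑Q) e₂ e₂) • e₂, Prod.ext ?_ ?_⟩
      · show polar (⇑Q) e₁ _ = s
        rw [QuadraticMap.polar_add_right, QuadraticMap.polar_smul_right, QuadraticMap.polar_smul_right, h12, smul_zero,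
          add_zero, smul_eq_mul, div_mul_cancel₀ _ hp₁]
      · show polar (⇑Q) e₂ _ = t
        rw [QuadraticMap.polar_add_right, QuadraticMap.polar_smul_right, QuadraticMap.polar_smul_right, h21, smul_zero,
          zero_add, smul_eq_mul, div_mul_cancel₀ _ hp₂]
    have h1 := LinearMap.finrank_range_add_finrank_ker f
    rw [hsurj, finrank_top, finrank_pi_fin, ← hker, Module.finrank_prod, Module.finrank_self] at h1
    omega

end Gen

/-- **The involution.** -/
theorem exists_z (hF : Fintype.card F = 3) {y : Cfsg.Omega F (⇑(quadPlus 4 F))} (hy : orderOf y = 7) :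
    ∃ z : Cfsg.Omega F (⇑(quadPlus 4 F)), z * z = 1 ∧ y * z = z * y ∧ (∀ v, rep F z v = -v → rep F y v = v) ∧
      finrank F (fixS (rep F z)) = 6 := by
  classical
  have h2F := two_ne hF
  have hp : Nat.Prime 7 := by norm_num
  set φ := matRep (omHom (⇑(quadPlus 4 F))) with hφdef
  have hφ : Function.Injective φ := matRep_injective (omHom_injective _)
  have hφQ : ∀ g v, quadPlus 4 F (φ g v) = quadPlus 4 F v := fun g v => omHom_preserves _ g v
  have hφB : ∀ g u v, polar (⇑(quadPlus 4 F)) (φ g u) (φ g v) = polar (⇑(quadPlus 4 F)) u v := fun g u v => omHom_polar _ g u v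
  have hpF : ¬ 7 ∣ Fintype.card F := by rw [hF]; norm_num
  have hord : orderOf ((Fintype.card F : ℕ) : ZMod 7) = 6 := by rw [hF, ord_seven_three]
  have hx : φ y ^ 7 ^ 1 = 1 := by rw [pow_one, ← map_pow, ← hy, pow_orderOf_eq_one, map_one]
  have hx1 : φ y ≠ 1 := by
    intro h
    have h1 : y = 1 := hφ (by rw [h, map_one])
    rw [h1, orderOf_one] at hy
    norm_num at hy
  have hC : finrank F (fixS (φ y)) = 2 := by
    have := finrank_fixS_add hp hpF hx hx1 hord (by rw [finrank_V]; norm_num)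
    rw [finrank_V] at this
    omega
  have han : ∀ u ∈ fixS (φ y), quadPlus 4 F u = 0 → u = 0 := fun u hu h =>
    aniso hF (by norm_num) hp (by norm_num) ord_seven_three hx hx1 (fun v => hφQ y v) hu h
  -- the two vectors
  obtain ⟨e₁, he₁, he₁0⟩ : ∃ e ∈ fixS (φ y), e ≠ 0 := by
    by_contra hcon
    push Not at hcon
    have : fixS (φ y) = ⊥ := (Submodule.eq_bot_iff _).2 hcon
    rw [this, finrank_bot] at hC
    norm_num at hC
  have hQ₁ : quadPlus 4 F e₁ ≠ 0 := fun h => he₁0 (han e₁ he₁ h)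
  have hp₁ : polar (⇑(quadPlus 4 F)) e₁ e₁ ≠ 0 := by
    rw [Reflection.polar_self']
    exact mul_ne_zero h2F hQ₁
  obtain ⟨w, hw, hw1⟩ : ∃ w ∈ fixS (φ y), w ∉ Submodule.span F {e₁} := by
    by_contra hcon
    push Not at hcon
    have h1 := Submodule.finrank_mono (show fixS (φ y) ≤ Submodule.span F {e₁} from hcon)
    rw [hC, finrank_span_singleton he₁0] at h1
    norm_num at h1
  set e₂ : Fin 4 ⊕ Fin 4 → F := w - (polar (⇑(quadPlus 4 F)) e₁ w / polar (⇑(quadPlus 4 F)) e₁ e₁) • e₁ with he₂def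
  have he₂ : e₂ ∈ fixS (φ y) := (fixS (φ y)).sub_mem hw ((fixS (φ y)).smul_mem _ he₁)
  have he₂0 : e₂ ≠ 0 := by
    intro h
    apply hw1
    rw [he₂def, sub_eq_zero] at h
    rw [h]
    exact Submodule.smul_mem _ _ (Submodule.mem_span_singleton_self e₁)
  have h12 : polar (⇑(quadPlus 4 F)) e₁ e₂ = 0 := by
    rw [he₂def, QuadraticMap.polar_sub_right, QuadraticMap.polar_smul_right, smul_eq_mul, div_mul_cancel₀ _ hp₁,
      sub_self]
  have hQ₂ : quadPlus 4 F e₂ ≠ 0 := fun h => he₂0 (han e₂ he₂ h)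
  have hQQ : quadPlus 4 F e₁ = quadPlus 4 F e₂ := by
    rcases eq_or_neg hF hQ₁ hQ₂ with h | h
    · exact h
    · exfalso
      have h1 : quadPlus 4 F (e₁ + e₂) = 0 := by
        rw [QuadraticMap.map_add (quadPlus 4 F), h12, h]; ring
      have h2 := han _ ((fixS (φ y)).add_mem he₁ he₂) h1
      have h3 : e₂ = -e₁ := by
        rw [eq_neg_iff_add_eq_zero, add_comm]; exact h2
      rw [h3, QuadraticMap.polar_neg_right, neg_eq_zero] at h12
      exact hp₁ h12
  obtain ⟨z, h1, h2, h3, h4⟩ := exists_z_gen h2F (y := y) he₁ he₂ hQ₁ hQ₂ hQQ h12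
  refine ⟨z, h1, h2, h3, ?_⟩
  have h5 : Fintype.card (Fin 4 ⊕ Fin 4) = 8 := by simp
  rw [h5] at h4
  show finrank F (fixS (matRep (omHom (⇑(quadPlus 4 F))) z)) = 6
  omega

theorem card_pomega (hF : Fintype.card F = 3) :
    Nat.card (Cfsg.POmega F (⇑(quadPlus 4 F))) = 4952179814400 := by
  have h1 := Cfsg.Agent.S0293.result hF 4 le_rfl
  rw [← coe_quadPlus] at h1
  have e1 : Nat.gcd 4 (3 ^ 4 - 1) = 4 := by norm_num
  rw [e1] at h1
  simp only [Finset.prod_range_succ, Finset.prod_range_zero] at h1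
  norm_num at h1
  omega

theorem iso_plus : ∃ u : Fin 4 ⊕ Fin 4 → F, u ≠ 0 ∧ quadPlus 4 F u = 0 := quadPlus_isotropic (by norm_num)

theorem card_omega (hF : Fintype.card F = 3) : Nat.card (Cfsg.Omega F (⇑(quadPlus 4 F))) =
    4952179814400 * Nat.card (Subgroup.center (Cfsg.Omega F (⇑(quadPlus 4 F)))) := by
  rw [← card_pomega hF]
  exact Subgroup.card_eq_card_quotient_mul_card_subgroup _

/-- prime powers dividing `|Ω|` -/
theorem pow_dvd (hF : Fintype.card F = 3) {t k : ℕ} (ht : t.Prime) (ht2 : t ≠ 2)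
    (h : t ^ k ∣ Nat.card (Cfsg.Omega F (⇑(quadPlus 4 F)))) : t ^ k ∣ 4952179814400 := by
  rw [card_omega hF] at h
  have h1 := not_dvd_center_omega (F := F) (Q := quadPlus 4 F) quadPlus_nondegenerate (by simp) iso_plus ht ht2
  exact (Nat.Coprime.pow_left k ((Nat.Prime.coprime_iff_not_dvd ht).2 h1)).dvd_of_dvd_mul_right h

theorem omega_facts (hF : Fintype.card F = 3) : ¬ 7 ∣ Fintype.card F ∧
    orderOf ((Fintype.card F : ℕ) : ZMod 7) = 6 ∧
    finrank F (Fin 4 ⊕ Fin 4 → F) < 2 * orderOf ((Fintype.card F : ℕ) : ZMod 7) := by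
  have hord : orderOf ((Fintype.card F : ℕ) : ZMod 7) = 6 := by rw [hF, ord_seven_three]
  refine ⟨by rw [hF]; norm_num, hord, ?_⟩
  rw [finrank_V, hord]; norm_num

theorem rep_injective : Function.Injective (rep F) := matRep_injective (omHom_injective _)

/-- the `t`-groups, `t ≠ 2, 3, 7` -/
theorem cent_big (hF : Fintype.card F = 3) {y : Cfsg.Omega F (⇑(quadPlus 4 F))} (hy : orderOf y = 7) {t : ℕ}
    (ht : t.Prime) (ht7 : t ≠ 7) (ht2 : t ≠ 2) (ht3 : t ≠ 3) {T : Subgroup (Cfsg.Omega F (⇑(quadPlus 4 F)))}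
    (hT : IsPGroup t T) (hyT : ∀ u ∈ T, y * u * y⁻¹ ∈ T) : ∀ u ∈ T, y * u = u * y := by
  have hp : Nat.Prime 7 := by norm_num
  have htf : Fact t.Prime := ⟨ht⟩
  obtain ⟨k, hk⟩ := IsPGroup.iff_card.1 hT
  refine cent_of_order hp hy ht ht7 hk hyT ?_
  intro j hj hjk
  have h1 : t ^ k ∣ 2 ^ 12 * 3 ^ 12 * 5 ^ 2 * 7 * 13 := by
    have h0 : t ^ k ∣ Nat.card (Cfsg.Omega F (⇑(quadPlus 4 F))) := hk ▸ Subgroup.card_subgroup_dvd_card T
    have := pow_dvd hF ht ht2 h0
    rwa [show 2 ^ 12 * 3 ^ 12 * 5 ^ 2 * 7 * 13 = 4952179814400 by norm_num]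
  have h2 : t ^ j ∣ 2 ^ 12 * 3 ^ 12 * 5 ^ 2 * 7 * 13 := (pow_dvd_pow t hjk).trans h1
  have htd : t ∣ 2 ^ 12 * 3 ^ 12 * 5 ^ 2 * 7 * 13 := (dvd_pow_self t (by omega)).trans h2
  have ht5 : t = 5 ∨ t = 13 := by
    have hpp : ∀ {a : ℕ}, a.Prime → ∀ n, t ∣ a ^ n → t = a := fun ha n h =>
      (Nat.prime_dvd_prime_iff_eq ht ha).1 (ht.dvd_of_dvd_pow h)
    rcases (ht.dvd_mul).1 htd with h | h
    · rcases (ht.dvd_mul).1 h with h | h
      · rcases (ht.dvd_mul).1 h with h | h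
        · rcases (ht.dvd_mul).1 h with h | h
          · exact absurd (hpp Nat.prime_two _ h) ht2
          · exact absurd (hpp Nat.prime_three _ h) ht3
        · exact Or.inl (hpp Nat.prime_five _ h)
      · exact absurd ((Nat.prime_dvd_prime_iff_eq ht hp).1 h) ht7
    · exact Or.inr ((Nat.prime_dvd_prime_iff_eq ht (by norm_num)).1 h)
  clear h1 htd
  rcases ht5 with rfl | rfl
  · have hj2 : j ≤ 2 := by
      by_contra h
      have h1 : 5 ^ 3 ∣ 2 ^ 12 * 3 ^ 12 * 5 ^ 2 * 7 * 13 := (pow_dvd_pow 5 (by omega)).trans h2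
      revert h1
      norm_num
    clear h2
    interval_cases j <;> norm_num
  · have hj2 : j ≤ 1 := by
      by_contra h
      have h1 : 13 ^ 2 ∣ 2 ^ 12 * 3 ^ 12 * 5 ^ 2 * 7 * 13 := (pow_dvd_pow 13 (by omega)).trans h2
      revert h1
      norm_num
    clear h2
    interval_cases j; norm_num

/-- **Solvable subgroups containing `y z`.** -/
theorem elc_omega (hF : Fintype.card F = 3) {y z : Cfsg.Omega F (⇑(quadPlus 4 F))} (hy : orderOf y = 7)
    (hzz : z * z = 1) (hyz : y * z = z * y) (hV : ∀ v, rep F z v = -v → rep F y v = v)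
    (hd : finrank F (fixS (rep F z)) = 6) : Elc 7 (y * z) y := by
  have hp : Nat.Prime 7 := by norm_num
  obtain ⟨hpF, hord, h2e⟩ := omega_facts hF
  refine elc_of hp (by norm_num) hy hzz hyz ?_ (commuting_of_rep (rep F) rep_injective hp hpF h2e)
  intro M hM hyM hzM t ht ht7 T hTM hTn hT
  by_cases ht2 : t = 2
  · subst ht2
    refine cent_two (rep F) rep_injective hp (by norm_num) (two_ne hF) hy hzz hyz hV
      (Or.inr ⟨by rw [hd], ?_⟩) hT (hTn y hyM) (hTn z hzM)
    rw [hd]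
    rintro ⟨k, hk⟩
    have hk3 : k < 3 := by
      by_contra hcon
      have : 2 ^ 3 ≤ 2 ^ k := Nat.pow_le_pow_right (by norm_num) (by omega)
      omega
    interval_cases k <;> omega
  by_cases ht3 : t = 3
  · subst ht3
    have h1 : T = ⊥ := core_plus (m := 4) (q := 3) (a := 1) (y := y) hF (by norm_num) hp (by norm_num) le_rfl
      ord_seven_three (by rw [hy, pow_one]) M hM hyM 3 (by norm_num) (by rw [hF]) T hTM hTn hT
    intro u hu
    rw [h1, Subgroup.mem_bot] at hu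
    rw [hu, mul_one, one_mul]
  · exact cent_big hF hy ht ht7 ht2 ht3 hT (hTn y hyM)

/-- **`AS2` for `PΩ⁺₈(3)`.** -/
theorem as2_three (hF : Fintype.card F = 3) [IsSimpleGroup (Cfsg.POmega F (⇑(quadPlus 4 F)))]
    (hna : ¬ IsMulCommutative (Cfsg.POmega F (⇑(quadPlus 4 F)))) : AS2 (Cfsg.POmega F (⇑(quadPlus 4 F))) := by
  have hp : Nat.Prime 7 := by norm_num
  have : Fact (Nat.Prime 7) := ⟨hp⟩
  obtain ⟨hpF, hord, h2e⟩ := omega_facts hF
  have hcard := card_pomega hF
  have hcz : ¬ 7 ∣ Nat.card (Subgroup.center (Cfsg.Omega F (⇑(quadPlus 4 F)))) :=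
    not_dvd_center_omega (F := F) (Q := quadPlus 4 F) quadPlus_nondegenerate (by simp) iso_plus hp (by norm_num)
  have hdv : 7 ∣ Nat.card (Cfsg.Omega F (⇑(quadPlus 4 F))) := by
    rw [card_omega hF]
    exact Dvd.dvd.mul_right (by norm_num) _
  obtain ⟨y, hy⟩ := exists_prime_orderOf_dvd_card' 7 hdv
  obtain ⟨z, hzz, hyz, hV, hd⟩ := exists_z hF hy
  have hel := elc_omega hF hy hzz hyz hV hd
  obtain ⟨hoy, hmem, huel⟩ := row_of_elc hp (by norm_num) hy hzz hyz hel hcz
  have hout : ¬ 7 ∣ Nat.card (Cfsg.Out (Cfsg.POmega F (⇑(quadPlus 4 F)))) := by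
    have hf3 : Fact (Nat.Prime 3) := ⟨Nat.prime_three⟩
    have h1 := H149.PGO.card_out_plus (F := F) (p := 3) (f := 1) (m := 4) le_rfl (by rw [hF, pow_one]) le_rfl
    rw [← coe_quadPlus] at h1
    intro h2
    have h3 := h2.trans h1
    revert h3
    norm_num
  have hr : H479.AS.GRow (Cfsg.POmega F (⇑(quadPlus 4 F))) 7 _ _ :=
    { hp := hp
      h5 := by norm_num
      ord := hoy
      mem := hmem
      su := huel
      full := by rw [hcard]; norm_num
      out := hout }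
  refine H479.AS.of_lt_g hna hr (c := 448) (b := 351) ?_ ?_ (by norm_num)
  · have h1 := cent_quot hp hcz (c := (27 + 1) * 16) (fun w hw => ?_) _ hoy
    · have h2 : 0 < Nat.card (Subgroup.center (Cfsg.Omega F (⇑(quadPlus 4 F)))) := Nat.card_pos
      exact (Nat.le_mul_of_pos_right _ h2).trans h1
    · refine (cent_le (rep F) rep_injective (frm_polar quadPlus_nondegenerate)
        (fun x y z => polar_add_left (quadPlus 4 F) x y z) (RingHom.id F) (fun c x y => ?_)
        (fun g u v => omHom_polar _ g u v) hp hpF h2e hw (Q := 27) (by rw [hord, hF]; norm_num)).trans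
        (Nat.mul_le_mul_left _ (card_K1_plus (m := 4) (q := 3) hF (by norm_num) hp (by norm_num) ord_seven_three hw))
      show polar (⇑(quadPlus 4 F)) (c • x) y = c * polar (⇑(quadPlus 4 F)) x y
      rw [polar_smul_left, smul_eq_mul]
  · rw [coe_quadPlus]
    intro H hH
    have h1 := plus_three_index_ge hF (k := 3) le_rfl H hH
    exact le_trans (by norm_num) h1

/-- **The row `PΩ⁺₈(3)`.** -/
theorem row {K : Type u} [Group K] [Finite K] [IsSimpleGroup K] (hna : ¬ IsMulCommutative K)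
    (hF : Fintype.card F = 3) (e : K ≃* Cfsg.POmega F (Cfsg.quadFormPlus 4 F)) : AS2 K := by
  rw [← coe_quadPlus] at e
  have : IsSimpleGroup (Cfsg.POmega F (⇑(quadPlus 4 F))) := e.symm.isSimpleGroup
  refine AS2.congr e.symm (as2_three hF fun h => hna ⟨⟨fun a b => ?_⟩⟩)
  apply e.injective
  rw [map_mul, map_mul]
  exact h.is_comm.comm _ _

end Cfsg.Agent.H99.AS.OThree
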