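import Cfsg.Agent.H99.AS.Gen

/-!
# S3943 (helper99): subgroups of order 169 normalised by an element of order 7, in dimension 8 over `F₅`
-/

set_option autoImplicit false
set_option linter.unusedSectionVars false

namespace Cfsg.Agent.H99.AS

open Module Subgroup Cfsg.Agent.H518.DghpFix Cfsg.Agent.H518.SU

universe u v w

section

variable {F : Type u} [Field F] {V : Type v} [AddCommGroup V] [Module F V] {G : Type w} [Group G]

/-- the fixed space of a subgroup -/
def fixG (φ : G →* (V →ₗ[F] V)) (A : Subgroup G) : Submodule F V where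
  carrier := {v | ∀ a ∈ A, φ a v = v}
  add_mem' := fun {v w} hv hw a ha => by rw [map_add, hv a ha, hw a ha]
  zero_mem' := fun a _ => map_zero _
  smul_mem' := fun c v hv a ha => by rw [map_smul, hv a ha]

theorem mem_fixG {φ : G →* (V →ₗ[F] V)} {A : Subgroup G} {v : V} : v ∈ fixG φ A ↔ ∀ a ∈ A, φ a v = v := Iff.rfl

theorem fixG_sup (φ : G →* (V →ₗ[F] V)) (A B : Subgroup G) : fixG φ (A ⊔ B) = fixG φ A ⊓ fixG φ B := by
  ext v
  constructor
  · intro h
    exact ⟨fun a ha => h a (Subgroup.mem_sup_left ha), fun a ha => h a (Subgroup.mem_sup_right ha)⟩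
  · rintro ⟨h1, h2⟩
    let S : Subgroup G :=
      { carrier := {g | φ g v = v}
        one_mem' := by
          show φ 1 v = v
          rw [map_one]; rfl
        mul_mem' := fun {a b} ha hb => by
          show φ (a * b) v = v
          rw [map_mul, Module.End.mul_apply, show φ b v = v from hb, show φ a v = v from ha]
        inv_mem' := fun {a} ha => by
          have ha' : φ a v = v := ha
          show φ a⁻¹ v = v
          nth_rewrite 1 [← ha']
          rw [← Module.End.mul_apply, ← map_mul, inv_mul_cancel, map_one]; rfl }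
    have h3 : A ⊔ B ≤ S := sup_le (fun a ha => h1 a ha) (fun b hb => h2 b hb)
    exact fun g hg => h3 hg

/-- a free action outside the fixed space -/
theorem card_dvd_of_free [Finite V] (φ : G →* (V →ₗ[F] V)) (T : Subgroup G)
    (h : ∀ v, v ∉ fixG φ T → ∀ t ∈ T, φ t v = v → t = 1) :
    Nat.card T ∣ Nat.card V - Nat.card (fixG φ T) := by
  classical
  let _ : MulAction T {v : V // v ∉ fixG φ T} :=
    { smul := fun t v => ⟨φ t v, fun hv => by
        apply v.2
        have h1 := hv (t : G)⁻¹ (inv_mem t.2)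
        rw [← Module.End.mul_apply, ← map_mul, inv_mul_cancel, map_one, Module.End.one_apply] at h1
        rw [h1]
        exact hv⟩
      one_smul := fun v => Subtype.ext (by
        show φ ((1 : T) : G) v = v
        rw [Subgroup.coe_one, map_one]; rfl)
      mul_smul := fun a b v => Subtype.ext (by
        show φ ((a * b : T) : G) v = φ a (φ b v)
        rw [Subgroup.coe_mul, map_mul]; rfl) }
  have hst : ∀ v : {v : V // v ∉ fixG φ T}, MulAction.stabilizer T v = ⊥ := by
    intro v
    rw [Subgroup.eq_bot_iff_forall]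
    intro t ht
    have h1 : t • v = v := ht
    exact Subtype.ext (h v v.2 t t.2 (congrArg Subtype.val h1))
  have h1 := Nat.card_congr (MulAction.selfEquivOrbitsQuotientProd hst)
  rw [Nat.card_prod] at h1
  have h2 : Nat.card V = Nat.card (fixG φ T) + Nat.card {v : V // v ∉ fixG φ T} := by
    rw [← Nat.card_sum]
    exact Nat.card_congr (Equiv.sumCompl (fun v => v ∈ fixG φ T)).symm
  rw [h2, Nat.add_sub_cancel_left, h1]
  exact Dvd.intro_left _ rfl

theorem orderOf_five_thirteen : orderOf ((5 : ℕ) : ZMod 13) = 4 := by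
  rw [orderOf_eq_iff (by norm_num)]
  refine ⟨by decide, ?_⟩
  intro m hm h0
  have : m = 1 ∨ m = 2 ∨ m = 3 := by omega
  rcases this with rfl | rfl | rfl <;> decide

/-- two subgroups of order 13 generate -/
theorem sup_eq_of_card {T B C : Subgroup G} (hT : Nat.card T = 13 ^ 2) (hB : B ≤ T) (hC : C ≤ T)
    (hBc : Nat.card B = 13) (hCc : Nat.card C = 13) (hne : B ≠ C) : B ⊔ C = T := by
  have hTf : Finite T := Nat.finite_of_card_ne_zero (by rw [hT]; norm_num)
  have hle : B ⊔ C ≤ T := sup_le hB hC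
  have hSf : Finite ↥(B ⊔ C) := Finite.of_injective _ (Subgroup.inclusion_injective hle)
  have h1 : Nat.card ↥(B ⊔ C) ∣ 13 ^ 2 := hT ▸ Subgroup.card_dvd_of_le hle
  have h2 : Nat.card B ∣ Nat.card ↥(B ⊔ C) := Subgroup.card_dvd_of_le le_sup_left
  obtain ⟨j, hj, hj'⟩ := (Nat.dvd_prime_pow (by norm_num : Nat.Prime 13)).1 h1
  have hj2 : j = 2 := by
    by_contra hcon
    have hj1 : j ≤ 1 := by omega
    have h3 : Nat.card ↥(B ⊔ C) ≤ 13 := by
      rw [hj']
      calc 13 ^ j ≤ 13 ^ 1 := Nat.pow_le_pow_right (by norm_num) hj1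
        _ = 13 := by norm_num
    have h4 : B = B ⊔ C := Subgroup.eq_of_le_of_card_ge le_sup_left (by rw [hBc]; exact h3)
    have h5 : C = B ⊔ C := Subgroup.eq_of_le_of_card_ge le_sup_right (by rw [hCc]; exact h3)
    exact hne (h4.trans h5.symm)
  exact Subgroup.eq_of_le_of_card_ge hle (by rw [hT, hj', hj2])

variable [Fintype F] [FiniteDimensional F V]

theorem finrank_fixG_ge (hF : Fintype.card F = 5) (φ : G →* (V →ₗ[F] V)) {T B : Subgroup G}
    (hT : Nat.card T = 13 ^ 2) (hab : ∀ t ∈ T, ∀ u ∈ T, t * u = u * t) (hB : B ≤ T) (hBc : Nat.card B = 13)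
    {v : V} (hv : v ∈ fixG φ B) (hvT : v ∉ fixG φ T) : finrank F (fixG φ T) + 4 ≤ finrank F (fixG φ B) := by
  have hTf : Finite T := Nat.finite_of_card_ne_zero (by rw [hT]; norm_num)
  have hp : Nat.Prime 13 := by norm_num
  have hBT : B ≠ T := by
    intro h
    exact hvT (h ▸ hv)
  obtain ⟨b, hb, hbB⟩ : ∃ b ∈ T, b ∉ B := by
    by_contra hcon
    push Not at hcon
    exact hBT (le_antisymm hB hcon)
  -- fixed by `B` and `b`
  have hsup : B ⊔ zpowers b = T := by
    have hle : B ⊔ zpowers b ≤ T := sup_le hB (zpowers_le.2 hb)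
    have hSf : Finite ↥(B ⊔ zpowers b) := Finite.of_injective _ (Subgroup.inclusion_injective hle)
    have h1 : Nat.card ↥(B ⊔ zpowers b) ∣ 13 ^ 2 := hT ▸ Subgroup.card_dvd_of_le hle
    obtain ⟨j, hj, hj'⟩ := (Nat.dvd_prime_pow hp).1 h1
    have hj2 : j = 2 := by
      by_contra hcon
      have hj1 : j ≤ 1 := by omega
      have h3 : Nat.card ↥(B ⊔ zpowers b) ≤ 13 := by
        rw [hj']
        calc 13 ^ j ≤ 13 ^ 1 := Nat.pow_le_pow_right (by norm_num) hj1
          _ = 13 := by norm_num
      have h4 : B = B ⊔ zpowers b := Subgroup.eq_of_le_of_card_ge le_sup_left (by rw [hBc]; exact h3)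
      apply hbB
      rw [h4]
      exact Subgroup.mem_sup_right (mem_zpowers b)
    exact Subgroup.eq_of_le_of_card_ge hle (by rw [hT, hj', hj2])
  have hinf : fixG φ B ⊓ fixS (φ b) = fixG φ T := by
    rw [← hsup, fixG_sup]
    apply le_antisymm
    · refine le_inf inf_le_left ?_
      rintro w ⟨-, hw⟩ g hg
      obtain ⟨i, rfl⟩ := mem_zpowers_iff.1 hg
      have h1 : φ b w = w := hw
      have h2 : w ∈ fixG φ (zpowers b) := by
        let S : Subgroup G :=
          { carrier := {g | φ g w = w}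
            one_mem' := by
              show φ 1 w = w
              rw [map_one]; rfl
            mul_mem' := fun {a c} ha hc => by
              show φ (a * c) w = w
              rw [map_mul, Module.End.mul_apply, show φ c w = w from hc, show φ a w = w from ha]
            inv_mem' := fun {a} ha => by
              have ha' : φ a w = w := ha
              show φ a⁻¹ w = w
              nth_rewrite 1 [← ha']
              rw [← Module.End.mul_apply, ← map_mul, inv_mul_cancel, map_one]; rfl }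
        have h3 : zpowers b ≤ S := zpowers_le.2 h1
        exact fun g hg => h3 hg
      exact h2 _ hg
    · rintro w ⟨h1, h2⟩
      exact ⟨h1, h2 b (mem_zpowers b)⟩
  have hb13 : φ b ^ 13 ^ 2 = 1 := by
    rw [← map_pow]
    have h1 : (⟨b, hb⟩ : T) ^ 13 ^ 2 = 1 := by rw [← hT]; exact pow_card_eq_one'
    have h2 : b ^ 13 ^ 2 = 1 := by simpa using congrArg Subtype.val h1
    rw [h2, map_one]
  have h1 := finrank_fix (f := φ b) hp (by rw [hF]; norm_num) hb13 (fixG φ B) (fun w hw a ha => by
    rw [← Module.End.mul_apply, ← map_mul, hab a (hB ha) b hb, map_mul, Module.End.mul_apply, hw a ha])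
  rw [hinf, hF, orderOf_five_thirteen] at h1
  have h2 : finrank F (fixG φ T) < finrank F (fixG φ B) := by
    apply Submodule.finrank_lt_finrank_of_lt
    refine lt_of_le_of_ne (fun w hw a ha => hw a (hB ha)) ?_
    intro h
    exact hvT (h ▸ hv)
  obtain ⟨m, hm⟩ := h1
  rcases Nat.eq_zero_or_pos m with h | h
  · rw [h] at hm; omega
  · omega

/-- **Subgroups of order 169.** -/
theorem cent_169 [Finite G] (hF : Fintype.card F = 5) (φ : G →* (V →ₗ[F] V)) (hφ : Function.Injective φ)
    (hV : finrank F V = 8) {y : G} (hy : orderOf y = 7) {T : Subgroup G} (hT : Nat.card T = 13 ^ 2)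
    (hyT : ∀ u ∈ T, y * u * y⁻¹ ∈ T) : ∀ u ∈ T, y * u = u * y := by
  have hp : Nat.Prime 13 := by norm_num
  have hpf : Fact (Nat.Prime 13) := ⟨hp⟩
  have hFf : Finite F := Finite.of_fintype F
  have hVf : Finite V := Module.finite_of_finite F
  have hy7 : y ^ 7 = 1 := by rw [← hy, pow_orderOf_eq_one]
  have hab : ∀ t ∈ T, ∀ u ∈ T, t * u = u * t := by
    intro t ht u hu
    have := (IsPGroup.isMulCommutative_of_card_eq_prime_sq hT).is_comm.comm (⟨t, ht⟩ : T) ⟨u, hu⟩
    exact congrArg Subtype.val this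
  have hT0 : T ≠ ⊥ := by
    intro h
    rw [h, Subgroup.card_bot] at hT
    norm_num at hT
  have hfix : fixG φ T ≠ ⊤ := by
    intro h
    obtain ⟨d, hd, hd1⟩ := T.bot_or_exists_ne_one.resolve_left hT0
    apply hd1
    apply hφ
    rw [map_one]
    refine LinearMap.ext fun v => ?_
    have : v ∈ fixG φ T := h ▸ Submodule.mem_top
    exact this d hd
  have hn0 : finrank F (fixG φ T) < 8 := by
    rw [← hV]
    exact Submodule.finrank_lt hfix
  -- an element with a larger fixed space
  obtain ⟨v, hvT, d, hd, hdv, hd1⟩ : ∃ v, v ∉ fixG φ T ∧ ∃ d ∈ T, φ d v = v ∧ d ≠ 1 := by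
    by_contra hcon
    push Not at hcon
    have h1 := card_dvd_of_free φ T hcon
    rw [hT, Module.natCard_eq_pow_finrank (K := F) (V := V), Module.natCard_eq_pow_finrank (K := F) (V := fixG φ T),
      Nat.card_eq_fintype_card, hF, hV] at h1
    generalize finrank F (fixG φ T) = n at h1 hn0
    interval_cases n <;> revert h1 <;> norm_num
  -- the stabiliser
  let A : Subgroup G :=
    { carrier := {g | g ∈ T ∧ φ g v = v}
      one_mem' := ⟨one_mem _, by rw [map_one]; rfl⟩
      mul_mem' := fun {a c} ha hc => ⟨mul_mem ha.1 hc.1, by rw [map_mul, Module.End.mul_apply, hc.2, ha.2]⟩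
      inv_mem' := fun {a} ha => ⟨inv_mem ha.1, by
        nth_rewrite 1 [← ha.2]
        rw [← Module.End.mul_apply, ← map_mul, inv_mul_cancel, map_one]; rfl⟩ }
  have hAT : A ≤ T := fun a ha => ha.1
  have hvA : v ∈ fixG φ A := fun a ha => ha.2
  have hA13 : Nat.card A = 13 := by
    have h1 : Nat.card A ∣ 13 ^ 2 := hT ▸ Subgroup.card_dvd_of_le hAT
    obtain ⟨j, hj, hj'⟩ := (Nat.dvd_prime_pow hp).1 h1
    have hj0 : j ≠ 0 := by
      rintro rfl
      rw [pow_zero] at hj'
      have : A = ⊥ := Subgroup.card_eq_one.1 hj'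
      have h2 : d ∈ A := ⟨hd, hdv⟩
      rw [this, Subgroup.mem_bot] at h2
      exact hd1 h2
    have hj2 : j ≠ 2 := by
      rintro rfl
      have h2 : A = T := Subgroup.eq_of_le_of_card_ge hAT (by rw [hT, hj'])
      exact hvT (h2 ▸ hvA)
    have : j = 1 := by omega
    rw [hj', this, pow_one]
  -- conjugation
  have hcj : ∀ B : Subgroup G, B ≤ T → B.map (MulAut.conj y).toMonoidHom ≤ T := by
    rintro B hB _ ⟨b, hb, rfl⟩
    exact hyT b (hB hb)
  have hcc : ∀ B : Subgroup G, Nat.card (B.map (MulAut.conj y).toMonoidHom) = Nat.card B := fun B =>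
    Subgroup.card_map_of_injective (MulAut.conj y).injective
  have hfy : ∀ (B : Subgroup G) (w : V), w ∈ fixG φ B → φ y w ∈ fixG φ (B.map (MulAut.conj y).toMonoidHom) := by
    rintro B w hw _ ⟨b, hb, rfl⟩
    show φ (y * b * y⁻¹) (φ y w) = φ y w
    rw [← Module.End.mul_apply, ← map_mul, inv_mul_cancel_right, map_mul, Module.End.mul_apply, hw b hb]
  have hfT : ∀ w : V, w ∉ fixG φ T → φ y w ∉ fixG φ T := by
    intro w hw hcon
    apply hw
    intro t ht
    have h1 := hcon _ (hyT t ht)
    rw [← Module.End.mul_apply, ← map_mul, inv_mul_cancel_right, map_mul, Module.End.mul_apply] at h1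
    have h2 : ∀ a b, φ y a = φ y b → a = b := by
      intro a b hab'
      have : φ y⁻¹ (φ y a) = φ y⁻¹ (φ y b) := by rw [hab']
      rwa [← Module.End.mul_apply, ← Module.End.mul_apply, ← map_mul, inv_mul_cancel, map_one] at this
    exact h2 _ _ h1
  set A' := A.map (MulAut.conj y).toMonoidHom with hA'
  set A'' := A'.map (MulAut.conj y).toMonoidHom with hA''
  have hnorm : A' = A := by
    by_contra hne
    have hne1 : A'' ≠ A' := by
      intro h
      apply hne
      exact Subgroup.map_injective (MulAut.conj y).injective h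
    have hne2 : A'' ≠ A := by
      intro h
      apply hne
      have h1 : ∀ n : ℕ, ∀ a ∈ A, y ^ (2 * n) * a * (y ^ (2 * n))⁻¹ ∈ A := by
        intro n
        induction n with
        | zero =>
          intro a ha
          rwa [mul_zero, pow_zero, one_mul, inv_one, mul_one]
        | succ n ih =>
          intro a ha
          have h2 : y * (y * (y ^ (2 * n) * a * (y ^ (2 * n))⁻¹) * y⁻¹) * y⁻¹ ∈ A'' := ⟨_, ⟨_, ih a ha, rfl⟩, rfl⟩
          rw [h] at h2
          rw [show 2 * (n + 1) = 1 + (1 + 2 * n) by ring, pow_add, pow_add, pow_one]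
          rw [show y * (y * y ^ (2 * n)) * a * (y * (y * y ^ (2 * n)))⁻¹ =
            y * (y * (y ^ (2 * n) * a * (y ^ (2 * n))⁻¹) * y⁻¹) * y⁻¹ by group]
          exact h2
      have h3 : y ^ (2 * 4) = y := by
        rw [show 2 * 4 = 7 + 1 by norm_num, pow_succ, hy7, one_mul]
      have h2 : A' ≤ A := by
        rintro _ ⟨a, ha, rfl⟩
        have := h1 4 a ha
        rwa [h3] at this
      exact Subgroup.eq_of_le_of_card_ge h2 (hcc A).ge
    have e1 := finrank_fixG_ge hF φ hT hab hAT hA13 hvA hvT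
    have hA'T := hcj A hAT
    have hA'13 : Nat.card A' = 13 := (hcc A).trans hA13
    have e2 : finrank F (fixG φ T) + 4 ≤ finrank F (fixG φ A') :=
      finrank_fixG_ge hF φ hT hab hA'T hA'13 (hfy A v hvA) (hfT v hvT)
    have hA''T := hcj A' hA'T
    have hA''13 : Nat.card A'' = 13 := (hcc A').trans hA'13
    have i1 : fixG φ A ⊓ fixG φ A' = fixG φ T := by
      rw [← fixG_sup, sup_eq_of_card hT hAT hA'T hA13 hA'13 (Ne.symm hne)]
    have i2 : fixG φ A ⊓ fixG φ A'' = fixG φ T := by
      rw [← fixG_sup, sup_eq_of_card hT hAT hA''T hA13 hA''13 (Ne.symm hne2)]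
    have i3 : fixG φ A' ⊓ fixG φ A'' = fixG φ T := by
      rw [← fixG_sup, sup_eq_of_card hT hA'T hA''T hA'13 hA''13 (Ne.symm hne1)]
    have e3 := Submodule.finrank_sup_add_finrank_inf_eq (fixG φ A) (fixG φ A')
    rw [i1] at e3
    have e4 : finrank F ↥(fixG φ A ⊔ fixG φ A') ≤ 8 := hV ▸ Submodule.finrank_le _
    have hTb : fixG φ T = ⊥ := Submodule.finrank_eq_zero.1 (by omega)
    have htop : fixG φ A ⊔ fixG φ A' = ⊤ := Submodule.eq_top_of_finrank_eq (by rw [hV]; omega)
    rw [hTb] at i1 i2 i3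
    have hv2 := hfy A' _ (hfy A v hvA)
    obtain ⟨w, hw, w', hw', hww⟩ := Submodule.mem_sup.1 (htop ▸ (Submodule.mem_top : φ y (φ y v) ∈ ⊤))
    have key : ∀ a ∈ A'', φ a w = w ∧ φ a w' = w' := by
      intro a ha
      have h1 := hv2 a ha
      rw [← hww, map_add] at h1
      have h2 : φ a w - w = w' - φ a w' := by
        rw [sub_eq_sub_iff_add_eq_add, h1, add_comm]
      have haT := hA''T ha
      have h3 : φ a w - w ∈ fixG φ A ⊓ fixG φ A' := by
        refine ⟨Submodule.sub_mem _ (fun b hb => ?_) hw, ?_⟩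
        · rw [← Module.End.mul_apply, ← map_mul, hab b (hAT hb) a haT, map_mul, Module.End.mul_apply, hw b hb]
        · rw [h2]
          refine Submodule.sub_mem _ hw' (fun b hb => ?_)
          rw [← Module.End.mul_apply, ← map_mul, hab b (hA'T hb) a haT, map_mul, Module.End.mul_apply, hw' b hb]
      rw [i1, Submodule.mem_bot] at h3
      refine ⟨sub_eq_zero.1 h3, ?_⟩
      rw [h3] at h2
      exact (sub_eq_zero.1 h2.symm).symm
    have z1 : w ∈ fixG φ A ⊓ fixG φ A'' := ⟨hw, fun a ha => (key a ha).1⟩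
    have z2 : w' ∈ fixG φ A' ⊓ fixG φ A'' := ⟨hw', fun a ha => (key a ha).2⟩
    rw [i2, Submodule.mem_bot] at z1
    rw [i3, Submodule.mem_bot] at z2
    rw [z1, z2, add_zero] at hww
    apply hfT _ (hfT v hvT)
    rw [← hww]
    exact Submodule.zero_mem _
  have hAc : ∀ u ∈ A, y * u = u * y := by
    refine cent_of_order (by norm_num : Nat.Prime 7) hy hp (by norm_num) (k := 1) (by rw [hA13, pow_one]) ?_ ?_
    · intro u hu
      have : y * u * y⁻¹ ∈ A' := ⟨u, hu, rfl⟩
      rwa [hnorm] at this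
    · intro j hj hj'
      have : j = 1 := by omega
      rw [this]
      norm_num
  -- now count
  have h1 := fix_modEq' (by norm_num : Nat.Prime 7) (y := y) hy7 (S := (T : Set G)) hyT
  have h2 : {s | s ∈ (T : Set G) ∧ y * s = s * y} = ((T ⊓ centralizer ({y} : Set G) : Subgroup G) : Set G) := by
    ext s
    rw [SetLike.mem_coe, mem_inf, mem_centralizer_singleton_iff]
    exact ⟨fun h => ⟨h.1, h.2.symm⟩, fun h => ⟨h.1, h.2.symm⟩⟩
  have h3 : Nat.card ↥(T ⊓ centralizer ({y} : Set G)) ∣ 13 ^ 2 := hT ▸ Subgroup.card_dvd_of_le inf_le_left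
  obtain ⟨c, hc, hc'⟩ := (Nat.dvd_prime_pow hp).1 h3
  rw [h2] at h1
  have h4 : ((T : Set G)).ncard = 13 ^ 2 := by rw [← hT]; rfl
  have h5 : (((T ⊓ centralizer ({y} : Set G) : Subgroup G) : Set G)).ncard = 13 ^ c := by rw [← hc']; rfl
  rw [h4, h5] at h1
  have hA1 : A ≤ T ⊓ centralizer ({y} : Set G) := fun a ha =>
    ⟨hAT ha, mem_centralizer_singleton_iff.2 (hAc a ha).symm⟩
  have h6 : 13 ∣ 13 ^ c := by
    rw [← hc', ← hA13]
    exact Subgroup.card_dvd_of_le hA1
  have hc2 : c = 2 := by
    by_contra hcon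
    have : c = 0 ∨ c = 1 := by omega
    rcases this with rfl | rfl
    · norm_num at h6
    · revert h1
      decide
  have h7 : T ⊓ centralizer ({y} : Set G) = T :=
    Subgroup.eq_of_le_of_card_ge inf_le_left (by rw [hT, hc', hc2])
  intro u hu
  rw [← h7] at hu
  exact (mem_centralizer_singleton_iff.1 hu.2).symm

end

end Cfsg.Agent.H99.AS
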