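import Cfsg.Agent.H99.AS.TwoV
import Cfsg.Agent.H99.AS.Thirteen
import Cfsg.Agent.H99.AS.OThree
import Cfsg.Agent.S0790

/-!
# S3943, the row `PΩ⁺₈(5)` (helper99)

`y` of order 7, `z = r(e) r(f)` of order 3 on the anisotropic plane `C_V(y)`.
-/

set_option autoImplicit false
set_option linter.unusedSectionVars false

namespace Cfsg.Agent.H99.AS.OFive

open Module QuadraticMap Matrix Cfsg.Agent.H518.DghpFix Cfsg.Agent.H518.DghpPrim Cfsg.Agent.H518.DghpMat
  Cfsg.Agent.H518.SU Cfsg.Agent.LieClassical.OmegaReindex Cfsg.Agent.ClassicalGeometry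
  Cfsg.Agent.ClassicalGeometry.Reflection Cfsg.Agent.ClassicalGeometry.SpinorSign Cfsg.Agent.H99.AS
  Cfsg.Agent.H489.AS Cfsg.Agent.H500.AS Cfsg.Agent.H965.AS

open Cfsg.Agent.H99.AS.OThree (rep finrank_V rep_injective iso_plus)

universe u

variable {F : Type} [Field F] [Fintype F]

section Field

variable (hF : Fintype.card F = 5)
include hF

theorem five_zero : (5 : F) = 0 := by
  have h1 : ((Fintype.card F : ℕ) : F) = 0 := Nat.cast_card_eq_zero F
  rw [hF] at h1
  exact_mod_cast h1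

theorem two_ne : (2 : F) ≠ 0 := by
  intro h
  have h1 := five_zero hF
  have h2 : (1 : F) = 0 := by linear_combination h1 - 2 * h
  exact one_ne_zero h2

theorem three_ne : (3 : F) ≠ 0 := by
  intro h
  have h1 := five_zero hF
  have h2 : (1 : F) = 0 := by linear_combination 2 * h - h1
  exact one_ne_zero h2

theorem cases4 {a : F} (ha : a ≠ 0) : a = 1 ∨ a = -1 ∨ a = 2 ∨ a = -2 := by
  have h5 := five_zero hF
  have h1 := FiniteField.pow_card_sub_one_eq_one a ha
  rw [hF] at h1
  have h2 : (a - 1) * ((a + 1) * ((a - 2) * (a + 2))) = 0 := by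
    linear_combination h1 + (1 - a ^ 2) * h5
  rcases mul_eq_zero.1 h2 with h | h
  · exact Or.inl (sub_eq_zero.1 h)
  rcases mul_eq_zero.1 h with h | h
  · exact Or.inr (Or.inl (eq_neg_of_add_eq_zero_left h))
  rcases mul_eq_zero.1 h with h | h
  · exact Or.inr (Or.inr (Or.inl (sub_eq_zero.1 h)))
  · exact Or.inr (Or.inr (Or.inr (eq_neg_of_add_eq_zero_left h)))

theorem isSquare_iff {a : F} (ha : a ≠ 0) : IsSquare a ↔ a = 1 ∨ a = -1 := by
  have h5 := five_zero hF
  constructor
  · rintro ⟨b, rfl⟩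
    have hb : b ≠ 0 := fun h => ha (by rw [h, mul_zero])
    rcases cases4 hF hb with rfl | rfl | rfl | rfl
    · left; ring
    · left; ring
    · right; linear_combination h5
    · right; linear_combination h5
  · rintro (rfl | rfl)
    · exact ⟨1, by ring⟩
    · exact ⟨2, by linear_combination -h5⟩

/-- an anisotropic plane has a nonsquare discriminant -/
theorem aniso_val {a b : F} (ha : a ≠ 0) (hb : b ≠ 0) (h : ∀ t : F, a + t * t * b ≠ 0) : b = 2 * a ∨ b = -(2 * a) := by
  have h5 := five_zero hF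
  have hr : b / a ≠ 0 := div_ne_zero hb ha
  have hba : b = b / a * a := by rw [div_mul_cancel₀ b ha]
  rcases cases4 hF hr with h2 | h2 | h2 | h2
  · exfalso
    apply h 2
    rw [hba, h2]
    linear_combination a * h5
  · exfalso
    apply h 1
    rw [hba, h2]
    ring
  · left
    rw [hba, h2]
  · right
    rw [hba, h2]
    ring

end Field

theorem ord_seven_five : orderOf ((5 : ℕ) : ZMod 7) = 2 * (4 - 1) := by
  rw [orderOf_eq_iff (by norm_num)]
  refine ⟨by decide, ?_⟩
  intro m hm h0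
  have : m = 1 ∨ m = 2 ∨ m = 3 ∨ m = 4 ∨ m = 5 := by omega
  rcases this with rfl | rfl | rfl | rfl | rfl <;> decide

theorem omega_facts (hF : Fintype.card F = 5) : ¬ 7 ∣ Fintype.card F ∧
    orderOf ((Fintype.card F : ℕ) : ZMod 7) = 6 ∧
    finrank F (Fin 4 ⊕ Fin 4 → F) < 2 * orderOf ((Fintype.card F : ℕ) : ZMod 7) := by
  have hord : orderOf ((Fintype.card F : ℕ) : ZMod 7) = 6 := by rw [hF, ord_seven_five]
  refine ⟨by rw [hF]; norm_num, hord, ?_⟩
  rw [finrank_V, hord]; norm_num

/-- the form -/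
abbrev Qf (F : Type) [Field F] : QuadraticForm F (Fin 4 ⊕ Fin 4 → F) := quadPlus 4 F

theorem rep_Q (g : Cfsg.Omega F (⇑(quadPlus 4 F))) (v : Fin 4 ⊕ Fin 4 → F) : Qf F (rep F g v) = Qf F v :=
  omHom_preserves _ g v

theorem rep_B (g : Cfsg.Omega F (⇑(quadPlus 4 F))) (u v : Fin 4 ⊕ Fin 4 → F) :
    polar (⇑(Qf F)) (rep F g u) (rep F g v) = polar (⇑(Qf F)) u v := omHom_polar _ g u v

section Y

variable (hF : Fintype.card F = 5) {y : Cfsg.Omega F (⇑(quadPlus 4 F))} (hy : orderOf y = 7)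
include hF hy

theorem y_pow : rep F y ^ 7 ^ 1 = 1 := by rw [pow_one, ← map_pow, ← hy, pow_orderOf_eq_one, map_one]

theorem y_ne : rep F y ≠ 1 := by
  intro h
  have h1 : y = 1 := rep_injective (by rw [h, map_one])
  rw [h1, orderOf_one] at hy
  norm_num at hy

theorem finrank_V2 : finrank F (fixS (rep F y)) = 2 := by
  have hp : Nat.Prime 7 := by norm_num
  obtain ⟨hpF, hord, -⟩ := omega_facts hF
  have := finrank_fixS_add hp hpF (y_pow hF hy) (y_ne hF hy) hord (by rw [finrank_V]; norm_num)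
  rw [finrank_V] at this
  omega

theorem aniso_V2 {u : Fin 4 ⊕ Fin 4 → F} (hu : u ∈ fixS (rep F y)) (h : Qf F u = 0) : u = 0 :=
  aniso hF (by norm_num) (by norm_num : Nat.Prime 7) (by norm_num) ord_seven_five (y_pow hF hy) (y_ne hF hy)
    (fun v => rep_Q y v) hu h

/-- the moved space -/
theorem finrank_V1 : finrank F (LinearMap.range (rep F y - 1)) = 6 := by
  have h1 := LinearMap.finrank_range_add_finrank_ker (rep F y - 1)
  have h2 : LinearMap.ker (rep F y - 1) = fixS (rep F y) := by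
    ext v
    rw [LinearMap.mem_ker, LinearMap.sub_apply, Module.End.one_apply, sub_eq_zero]
    exact Iff.rfl
  rw [h2, finrank_V2 hF hy, finrank_V] at h1
  omega

theorem V1_perp {u v : Fin 4 ⊕ Fin 4 → F} (hu : u ∈ LinearMap.range (rep F y - 1)) (hv : v ∈ fixS (rep F y)) :
    polar (⇑(Qf F)) u v = 0 := by
  obtain ⟨w, rfl⟩ := hu
  have hv' : rep F y v = v := hv
  rw [LinearMap.sub_apply, Module.End.one_apply, QuadraticMap.polar_sub_left]
  nth_rewrite 1 [← hv']
  rw [rep_B, sub_self]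

theorem inf_bot : LinearMap.range (rep F y - 1) ⊓ fixS (rep F y) = ⊥ := by
  rw [Submodule.eq_bot_iff]
  rintro v ⟨h1, h2⟩
  have h3 := V1_perp hF hy h1 h2
  rw [Reflection.polar_self'] at h3
  exact aniso_V2 hF hy h2 ((mul_eq_zero.1 h3).resolve_left (two_ne hF))

theorem sup_top : LinearMap.range (rep F y - 1) ⊔ fixS (rep F y) = ⊤ := by
  apply Submodule.eq_top_of_finrank_eq
  have h1 := Submodule.finrank_sup_add_finrank_inf_eq (LinearMap.range (rep F y - 1)) (fixS (rep F y))
  rw [inf_bot hF hy, finrank_bot, finrank_V1 hF hy, finrank_V2 hF hy] at h1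
  rw [finrank_V]
  omega

/-- `V₁` is irreducible -/
theorem irr (W : Submodule F (Fin 4 ⊕ Fin 4 → F)) (hW : W ≤ LinearMap.range (rep F y - 1))
    (hWy : ∀ v ∈ W, rep F y v ∈ W) : W = ⊥ ∨ W = LinearMap.range (rep F y - 1) := by
  have hp : Nat.Prime 7 := by norm_num
  obtain ⟨hpF, hord, -⟩ := omega_facts hF
  have h1 := finrank_fix hp hpF (y_pow hF hy) W hWy
  have h2 : W ⊓ fixS (rep F y) = ⊥ := by
    rw [eq_bot_iff, ← inf_bot hF hy]
    exact inf_le_inf_right _ hW
  rw [h2, finrank_bot, Nat.sub_zero, hord] at h1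
  have h3 : finrank F W ≤ 6 := (Submodule.finrank_mono hW).trans (finrank_V1 hF hy).le
  obtain ⟨m, hm⟩ := h1
  rcases Nat.eq_zero_or_pos m with h | h
  · left
    rw [h, mul_zero] at hm
    exact Submodule.finrank_eq_zero.1 hm
  · right
    apply Submodule.eq_of_le_of_finrank_eq hW
    rw [finrank_V1 hF hy]
    omega

/-- an orthogonal basis of the plane -/
theorem exists_basis : ∃ e₁ ∈ fixS (rep F y), ∃ e₂ ∈ fixS (rep F y), Qf F e₁ ≠ 0 ∧ Qf F e₂ ≠ 0 ∧
    polar (⇑(Qf F)) e₁ e₂ = 0 ∧ (Qf F e₂ = 2 * Qf F e₁ ∨ Qf F e₂ = -(2 * Qf F e₁)) := by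
  have h2F := two_ne hF
  have hC := finrank_V2 hF hy
  have han : ∀ u ∈ fixS (rep F y), Qf F u = 0 → u = 0 := fun u hu h => aniso_V2 hF hy hu h
  obtain ⟨e₁, he₁, he₁0⟩ : ∃ e ∈ fixS (rep F y), e ≠ 0 := by
    by_contra hcon
    push Not at hcon
    have : fixS (rep F y) = ⊥ := (Submodule.eq_bot_iff _).2 hcon
    rw [this, finrank_bot] at hC
    norm_num at hC
  have hQ₁ : Qf F e₁ ≠ 0 := fun h => he₁0 (han e₁ he₁ h)
  have hp₁ : polar (⇑(Qf F)) e₁ e₁ ≠ 0 := by
    rw [Reflection.polar_self']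
    exact mul_ne_zero h2F hQ₁
  obtain ⟨w, hw, hw1⟩ : ∃ w ∈ fixS (rep F y), w ∉ Submodule.span F {e₁} := by
    by_contra hcon
    push Not at hcon
    have h1 := Submodule.finrank_mono (show fixS (rep F y) ≤ Submodule.span F {e₁} from hcon)
    rw [hC, finrank_span_singleton he₁0] at h1
    norm_num at h1
  set e₂ : Fin 4 ⊕ Fin 4 → F := w - (polar (⇑(Qf F)) e₁ w / polar (⇑(Qf F)) e₁ e₁) • e₁ with he₂def
  have he₂ : e₂ ∈ fixS (rep F y) := (fixS (rep F y)).sub_mem hw ((fixS (rep F y)).smul_mem _ he₁)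
  have he₂0 : e₂ ≠ 0 := by
    intro h
    apply hw1
    rw [he₂def, sub_eq_zero] at h
    rw [h]
    exact Submodule.smul_mem _ _ (Submodule.mem_span_singleton_self e₁)
  have h12 : polar (⇑(Qf F)) e₁ e₂ = 0 := by
    rw [he₂def, QuadraticMap.polar_sub_right, QuadraticMap.polar_smul_right, smul_eq_mul, div_mul_cancel₀ _ hp₁,
      sub_self]
  have hQ₂ : Qf F e₂ ≠ 0 := fun h => he₂0 (han e₂ he₂ h)
  refine ⟨e₁, he₁, e₂, he₂, hQ₁, hQ₂, h12, aniso_val hF hQ₁ hQ₂ ?_⟩
  intro t ht
  have h1 : Qf F (e₁ + t • e₂) = 0 := by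
    rw [QuadraticMap.map_add (Qf F), QuadraticMap.polar_smul_right, h12, smul_zero, add_zero, QuadraticMap.map_smul,
      smul_eq_mul, ht]
  have h2 := han _ ((fixS (rep F y)).add_mem he₁ ((fixS (rep F y)).smul_mem t he₂)) h1
  have h3 : polar (⇑(Qf F)) e₁ (e₁ + t • e₂) = 0 := by rw [h2, QuadraticMap.polar_zero_right]
  rw [QuadraticMap.polar_add_right, QuadraticMap.polar_smul_right, h12, smul_zero, add_zero] at h3
  exact hp₁ h3

set_option maxHeartbeats 1000000 in
/-- the product of two reflections in vectors `e`, `f` with `Q(e) = Q(f) = -(e, f)` -/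
theorem exists_z_of {e f : Fin 4 ⊕ Fin 4 → F} (he : e ∈ fixS (rep F y)) (hf : f ∈ fixS (rep F y))
    (hQe : Qf F e ≠ 0) (hQf : Qf F f = Qf F e) (hef : polar (⇑(Qf F)) e f = -Qf F e) :
    ∃ z : Cfsg.Omega F (⇑(quadPlus 4 F)), z ^ 3 = 1 ∧ y * z = z * y ∧
      (∀ v, rep F y (rep F z v - v) = rep F z v - v) ∧ finrank F (fixS (rep F z)) = 6 := by
  classical
  have h2F := two_ne hF
  have h3F := three_ne hF
  have hQf0 : Qf F f ≠ 0 := by rw [hQf]; exact hQe
  obtain ⟨a, ha, hconj⟩ := exists_conj_reflIso h2F (Qf F) hQe hQf0 hQf.symm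
  set r₁ := reflIso (Qf F) e hQe with hr₁
  set r₂ := reflIso (Qf F) f hQf0 with hr₂
  set r := reflIso (Qf F) a ha with hr
  have hmem : r₁ * r₂ ∈ Cfsg.Omega F (⇑(Qf F)) := by
    have h1 := Subgroup.commutator_mem_commutator (Subgroup.mem_top r₁) (Subgroup.mem_top r)
    rw [commutatorElement_def, reflIso_inv, reflIso_inv, mul_assoc, mul_assoc] at h1
    rw [hconj, mul_assoc r]
    exact h1
  set z : Cfsg.Omega F (⇑(quadPlus 4 F)) := ⟨r₁ * r₂, hmem⟩ with hz
  have hR : ∀ (e : Fin 4 ⊕ Fin 4 → F) (he : Qf F e ≠ 0) (v : Fin 4 ⊕ Fin 4 → F),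
      ((reflIso (Qf F) e he : Matrix.GeneralLinearGroup (Fin 4 ⊕ Fin 4) F) :
        Matrix (Fin 4 ⊕ Fin 4) (Fin 4 ⊕ Fin 4) F) *ᵥ v =
        v - ((Qf F e)⁻¹ * polar (⇑(Qf F)) e v) • e := fun e he v => by
    rw [coe_reflIso, reflectionMatrix_mulVec]
  obtain ⟨α, hα⟩ : ∃ α : (Fin 4 ⊕ Fin 4 → F) → F, ∀ v, α v = (Qf F e)⁻¹ * polar (⇑(Qf F)) e v := ⟨_, fun _ => rfl⟩
  obtain ⟨β, hβ⟩ : ∃ β : (Fin 4 ⊕ Fin 4 → F) → F, ∀ v, β v = (Qf F e)⁻¹ * polar (⇑(Qf F)) f v := ⟨_, fun _ => rfl⟩
  have hφz : ∀ v, rep F z v = v - α v • e - β v • (e + f) := by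
    intro v
    have h1 : rep F z v = ((r₁ * r₂ : Cfsg.isometryGroup F (⇑(Qf F))) :
        Matrix.GeneralLinearGroup (Fin 4 ⊕ Fin 4) F).1 *ᵥ v := rfl
    rw [h1, coe_mul_mulVec, hR, hR, QuadraticMap.polar_sub_right, QuadraticMap.polar_smul_right, hef, hQf]
    have h2 : (Qf F e)⁻¹ * (polar (⇑(Qf F)) e v - ((Qf F e)⁻¹ * polar (⇑(Qf F)) f v) • -Qf F e) = α v + β v := by
      rw [hα v, hβ v, smul_eq_mul]
      field_simp
      ring
    rw [h2, ← hβ v, add_smul, smul_add]
    abel
  have hfe : polar (⇑(Qf F)) f e = -Qf F e := by rw [polar_comm, hef]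
  have αe : α e = 2 := by
    rw [hα, Reflection.polar_self']; field_simp
  have αf : α f = -1 := by
    rw [hα, hef]; field_simp
  have βe : β e = -1 := by
    rw [hβ, hfe]; field_simp
  have βf : β f = 2 := by
    rw [hβ, Reflection.polar_self', hQf]; field_simp
  have ze : rep F z e = f := by
    rw [hφz, αe, βe, two_smul, neg_smul, one_smul]; abel
  have zf : rep F z f = -(e + f) := by
    rw [hφz, αf, βf, two_smul, neg_smul, one_smul]; abel
  have hz3 : z ^ 3 = 1 := by
    apply rep_injective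
    refine LinearMap.ext fun v => ?_
    rw [map_pow, map_one, pow_succ, pow_two, Module.End.mul_apply, Module.End.mul_apply, Module.End.one_apply]
    have e1 : rep F z v = v - α v • e - β v • (e + f) := hφz v
    have e2 : rep F z (rep F z v) = v - β v • f - α v • (e + f) := by
      rw [e1, map_sub, map_sub, map_smul, map_smul, map_add, ze, zf, e1, neg_add, smul_add (β v) f, smul_add (β v) e f,
        smul_add (α v) e f, smul_add, smul_neg, smul_neg]
      abel
    rw [e2, map_sub, map_sub, map_smul, map_smul, map_add, ze, zf, e1]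
    rw [smul_neg, neg_add, smul_add (α v) f, smul_add (α v) (-e) (-f), smul_neg, smul_neg]
    abel
  have hye : ∀ e ∈ fixS (rep F y), ∀ v, polar (⇑(Qf F)) e (rep F y v) = polar (⇑(Qf F)) e v := by
    intro e he v
    have h1 : rep F y e = e := he
    calc polar (⇑(Qf F)) e (rep F y v) = polar (⇑(Qf F)) (rep F y e) (rep F y v) := by rw [h1]
      _ = polar (⇑(Qf F)) e v := rep_B y e v
  have hmv : ∀ v, rep F z v - v ∈ fixS (rep F y) := by
    intro v
    rw [hφz v]
    have : v - α v • e - β v • (e + f) - v = -(α v • e + β v • (e + f)) := by abel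
    rw [this]
    exact (fixS (rep F y)).neg_mem ((fixS (rep F y)).add_mem ((fixS (rep F y)).smul_mem _ he)
      ((fixS (rep F y)).smul_mem _ ((fixS (rep F y)).add_mem he hf)))
  refine ⟨z, hz3, ?_, fun v => hmv v, ?_⟩
  · apply rep_injective
    refine LinearMap.ext fun v => ?_
    rw [map_mul, map_mul, Module.End.mul_apply, Module.End.mul_apply, hφz v, hφz (rep F y v), map_sub, map_sub,
      map_smul, map_smul, map_add, show rep F y e = e from he, show rep F y f = f from hf]
    have e1 : α (rep F y v) = α v := by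
      rw [hα, hα, hye e he]
    have e2 : β (rep F y v) = β v := by
      rw [hβ, hβ, hye f hf]
    rw [e1, e2]
  · -- the dimension of the fixed space
    let g : (Fin 4 ⊕ Fin 4 → F) →ₗ[F] (F × F) :=
      { toFun := fun v => (polar (⇑(Qf F)) e v, polar (⇑(Qf F)) f v)
        map_add' := fun v v' => by
          rw [QuadraticMap.polar_add_right, QuadraticMap.polar_add_right]; rfl
        map_smul' := fun c v => by
          rw [QuadraticMap.polar_smul_right, QuadraticMap.polar_smul_right]; rfl }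
    have hker : fixS (rep F z) = LinearMap.ker g := by
      ext v
      rw [LinearMap.mem_ker]
      constructor
      · intro hv
        have h1 : rep F z v = v := hv
        have h2 : α v • e + β v • (e + f) = 0 := by
          have h3 : rep F z v - v = 0 := sub_eq_zero.2 h1
          rw [hφz v] at h3
          have h4 : v - α v • e - β v • (e + f) - v = -(α v • e + β v • (e + f)) := by abel
          rw [h4] at h3
          exact neg_eq_zero.1 h3
        have h3 : α (α v • e + β v • (e + f)) = 0 := by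
          rw [h2, hα, QuadraticMap.polar_zero_right, mul_zero]
        have h4 : β (α v • e + β v • (e + f)) = 0 := by
          rw [h2, hβ, QuadraticMap.polar_zero_right, mul_zero]
        have hαl : ∀ (c d : F) (x w : Fin 4 ⊕ Fin 4 → F), α (c • x + d • w) = c * α x + d * α w := fun c d x w => by
          rw [hα, hα, hα, QuadraticMap.polar_add_right, QuadraticMap.polar_smul_right, QuadraticMap.polar_smul_right, smul_eq_mul,
            smul_eq_mul]
          ring
        have hβl : ∀ (c d : F) (x w : Fin 4 ⊕ Fin 4 → F), β (c • x + d • w) = c * β x + d * β w := fun c d x w => by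
          rw [hβ, hβ, hβ, QuadraticMap.polar_add_right, QuadraticMap.polar_smul_right, QuadraticMap.polar_smul_right, smul_eq_mul,
            smul_eq_mul]
          ring
        have hαs : α (e + f) = 1 := by
          have := hαl 1 1 e f
          rw [one_smul, one_smul, αe, αf] at this
          rw [this]; ring
        have hβs : β (e + f) = 1 := by
          have := hβl 1 1 e f
          rw [one_smul, one_smul, βe, βf] at this
          rw [this]; ring
        rw [hαl, αe, hαs] at h3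
        rw [hβl, βe, hβs] at h4
        have h5 : 3 * α v = 0 := by linear_combination h3 - h4
        have h6 : α v = 0 := (mul_eq_zero.1 h5).resolve_left h3F
        have h7 : β v = 0 := by rw [h6] at h4; linear_combination h4
        have hQi : (Qf F e)⁻¹ ≠ 0 := inv_ne_zero hQe
        rw [hα] at h6
        rw [hβ] at h7
        exact Prod.ext ((mul_eq_zero.1 h6).resolve_left hQi) ((mul_eq_zero.1 h7).resolve_left hQi)
      · intro hv
        have h1 : polar (⇑(Qf F)) e v = 0 := congrArg Prod.fst hv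
        have h2 : polar (⇑(Qf F)) f v = 0 := congrArg Prod.snd hv
        show rep F z v = v
        have h3 : α v = 0 := by
          rw [hα, h1, mul_zero]
        have h4 : β v = 0 := by
          rw [hβ, h2, mul_zero]
        rw [hφz, h3, h4, zero_smul, zero_smul, sub_zero, sub_zero]
    have hsurj : LinearMap.range g = ⊤ := by
      rw [LinearMap.range_eq_top]
      rintro ⟨s, t⟩
      have h3a : (3 : F) * Qf F e ≠ 0 := mul_ne_zero h3F hQe
      refine ⟨((2 * s + t) / (3 * Qf F e)) • e + ((s + 2 * t) / (3 * Qf F e)) • f, Prod.ext ?_ ?_⟩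
      · show polar (⇑(Qf F)) e _ = s
        rw [QuadraticMap.polar_add_right, QuadraticMap.polar_smul_right, QuadraticMap.polar_smul_right, hef,
          Reflection.polar_self', smul_eq_mul, smul_eq_mul]
        field_simp
        ring
      · show polar (⇑(Qf F)) f _ = t
        rw [QuadraticMap.polar_add_right, QuadraticMap.polar_smul_right, QuadraticMap.polar_smul_right, hfe,
          Reflection.polar_self', hQf, smul_eq_mul, smul_eq_mul]
        field_simp
        ring
    have h1 := LinearMap.finrank_range_add_finrank_ker g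
    rw [hsurj, finrank_top, finrank_V, ← hker, Module.finrank_prod, Module.finrank_self] at h1
    omega

theorem exists_z : ∃ z : Cfsg.Omega F (⇑(quadPlus 4 F)), z ^ 3 = 1 ∧ y * z = z * y ∧
      (∀ v, rep F y (rep F z v - v) = rep F z v - v) ∧ finrank F (fixS (rep F z)) = 6 := by
  have h5 := five_zero hF
  obtain ⟨e, he, w, hw, hQe, hQw, hew, hd⟩ := exists_basis hF hy
  obtain ⟨b, hb⟩ : ∃ b : F, 4 * Qf F e + b * b * Qf F w = Qf F e := by
    rcases hd with h | h
    · exact ⟨1, by rw [h]; linear_combination Qf F e * h5⟩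
    · exact ⟨2, by rw [h]; linear_combination (-Qf F e) * h5⟩
  refine exists_z_of hF hy (e := e) (f := (2 : F) • e + b • w) he
    ((fixS (rep F y)).add_mem ((fixS (rep F y)).smul_mem _ he) ((fixS (rep F y)).smul_mem _ hw)) hQe ?_ ?_
  · rw [QuadraticMap.map_add (Qf F), QuadraticMap.map_smul, QuadraticMap.map_smul, QuadraticMap.polar_smul_left,
      QuadraticMap.polar_smul_right, hew, smul_zero, smul_zero, add_zero, smul_eq_mul, smul_eq_mul]
    linear_combination hb
  · rw [QuadraticMap.polar_add_right, QuadraticMap.polar_smul_right, QuadraticMap.polar_smul_right, hew, smul_zero,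
      add_zero, Reflection.polar_self', smul_eq_mul]
    linear_combination Qf F e * h5

/-- vectors of the plane orthogonal to a basis -/
theorem eq_zero_of_perp {e₁ e₂ : Fin 4 ⊕ Fin 4 → F} (he₁ : e₁ ∈ fixS (rep F y)) (he₂ : e₂ ∈ fixS (rep F y))
    (hQ₁ : Qf F e₁ ≠ 0) (hQ₂ : Qf F e₂ ≠ 0) (h12 : polar (⇑(Qf F)) e₁ e₂ = 0) {v : Fin 4 ⊕ Fin 4 → F}
    (hv : v ∈ fixS (rep F y)) (h1 : polar (⇑(Qf F)) e₁ v = 0) (h2 : polar (⇑(Qf F)) e₂ v = 0) : v = 0 := by
  have h2F := two_ne hF
  let g : fixS (rep F y) →ₗ[F] (F × F) :=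
    { toFun := fun v => (polar (⇑(Qf F)) e₁ v, polar (⇑(Qf F)) e₂ v)
      map_add' := fun v v' => by
        show (polar (⇑(Qf F)) e₁ ((v : Fin 4 ⊕ Fin 4 → F) + v'), polar (⇑(Qf F)) e₂ ((v : Fin 4 ⊕ Fin 4 → F) + v')) = _
        rw [QuadraticMap.polar_add_right, QuadraticMap.polar_add_right]; rfl
      map_smul' := fun c v => by
        show (polar (⇑(Qf F)) e₁ (c • (v : Fin 4 ⊕ Fin 4 → F)), polar (⇑(Qf F)) e₂ (c • (v : Fin 4 ⊕ Fin 4 → F))) = _
        rw [QuadraticMap.polar_smul_right, QuadraticMap.polar_smul_right]; rfl }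
  have h21 : polar (⇑(Qf F)) e₂ e₁ = 0 := by rw [polar_comm, h12]
  have hp₁ : polar (⇑(Qf F)) e₁ e₁ ≠ 0 := by
    rw [Reflection.polar_self']
    exact mul_ne_zero h2F hQ₁
  have hp₂ : polar (⇑(Qf F)) e₂ e₂ ≠ 0 := by
    rw [Reflection.polar_self']
    exact mul_ne_zero h2F hQ₂
  have hsurj : Function.Surjective g := by
    rintro ⟨s, t⟩
    refine ⟨⟨(s / polar (⇑(Qf F)) e₁ e₁) • e₁ + (t / polar (⇑(Qf F)) e₂ e₂) • e₂,
      (fixS (rep F y)).add_mem ((fixS (rep F y)).smul_mem _ he₁) ((fixS (rep F y)).smul_mem _ he₂)⟩, Prod.ext ?_ ?_⟩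
    · show polar (⇑(Qf F)) e₁ _ = s
      rw [QuadraticMap.polar_add_right, QuadraticMap.polar_smul_right, QuadraticMap.polar_smul_right, h12, smul_zero,
        add_zero, smul_eq_mul, div_mul_cancel₀ _ hp₁]
    · show polar (⇑(Qf F)) e₂ _ = t
      rw [QuadraticMap.polar_add_right, QuadraticMap.polar_smul_right, QuadraticMap.polar_smul_right, h21, smul_zero,
        zero_add, smul_eq_mul, div_mul_cancel₀ _ hp₂]
  have hinj : Function.Injective g := by
    refine (LinearMap.injective_iff_surjective_of_finrank_eq_finrank ?_).2 hsurj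
    rw [finrank_V2 hF hy, Module.finrank_prod, Module.finrank_self]
  have h3 : g ⟨v, hv⟩ = g 0 := by
    rw [map_zero]
    exact Prod.ext h1 h2
  exact congrArg Subtype.val (hinj h3)

theorem eq_of_mulVec {g h : Cfsg.isometryGroup F (⇑(Qf F))} (hgh : ∀ v,
    ((g : Matrix.GeneralLinearGroup (Fin 4 ⊕ Fin 4) F) : Matrix (Fin 4 ⊕ Fin 4) (Fin 4 ⊕ Fin 4) F) *ᵥ v =
    ((h : Matrix.GeneralLinearGroup (Fin 4 ⊕ Fin 4) F) : Matrix (Fin 4 ⊕ Fin 4) (Fin 4 ⊕ Fin 4) F) *ᵥ v) : g = h := by
  apply Subtype.ext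
  apply Units.ext
  apply Matrix.mulVec_injective
  funext v
  exact hgh v

omit hF hy in
theorem spinor_eq_one (u : Cfsg.Omega F (⇑(Qf F))) : spinorSign (⇑(Qf F)) 1 u.1 = 1 :=
  (Abelianization.commutator_subset_ker (spinorSign (⇑(Qf F)) 1)) u.2

/-- `(1, -1) ∉ Ω` -/
theorem no_neg {u : Cfsg.Omega F (⇑(quadPlus 4 F))} (h1 : ∀ v ∈ LinearMap.range (rep F y - 1), rep F u v = v)
    (h2 : ∀ v ∈ fixS (rep F y), rep F u v = -v) : False := by
  classical
  have h2F := two_ne hF
  obtain ⟨e₁, he₁, e₂, he₂, hQ₁, hQ₂, h12, hd⟩ := exists_basis hF hy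
  have h21 : polar (⇑(Qf F)) e₂ e₁ = 0 := by rw [polar_comm, h12]
  have hR : ∀ (e : Fin 4 ⊕ Fin 4 → F) (he : Qf F e ≠ 0) (v : Fin 4 ⊕ Fin 4 → F),
      ((reflIso (Qf F) e he : Matrix.GeneralLinearGroup (Fin 4 ⊕ Fin 4) F) :
        Matrix (Fin 4 ⊕ Fin 4) (Fin 4 ⊕ Fin 4) F) *ᵥ v =
        v - ((Qf F e)⁻¹ * polar (⇑(Qf F)) e v) • e := fun e he v => by
    rw [coe_reflIso, reflectionMatrix_mulVec]
  have heq : (u.1 : Cfsg.isometryGroup F (⇑(Qf F))) = reflIso (Qf F) e₁ hQ₁ * reflIso (Qf F) e₂ hQ₂ := by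
    refine eq_of_mulVec hF hy fun v => ?_
    have e0 : ((u.1 : Matrix.GeneralLinearGroup (Fin 4 ⊕ Fin 4) F) :
        Matrix (Fin 4 ⊕ Fin 4) (Fin 4 ⊕ Fin 4) F) *ᵥ v = rep F u v := rfl
    have e1 : (((reflIso (Qf F) e₁ hQ₁ * reflIso (Qf F) e₂ hQ₂ : Cfsg.isometryGroup F (⇑(Qf F))) :
        Matrix.GeneralLinearGroup (Fin 4 ⊕ Fin 4) F) : Matrix (Fin 4 ⊕ Fin 4) (Fin 4 ⊕ Fin 4) F) *ᵥ v =
        v - ((Qf F e₂)⁻¹ * polar (⇑(Qf F)) e₂ v) • e₂ - ((Qf F e₁)⁻¹ * polar (⇑(Qf F)) e₁ v) • e₁ := by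
      rw [coe_mul_mulVec, hR, hR, QuadraticMap.polar_sub_right, QuadraticMap.polar_smul_right, h12, smul_zero,
        sub_zero]
    rw [e0, e1]
    obtain ⟨a, ha, b, hb, rfl⟩ := Submodule.mem_sup.1 (sup_top hF hy ▸ (Submodule.mem_top : v ∈ ⊤))
    have p1 : polar (⇑(Qf F)) e₁ a = 0 := by rw [polar_comm, V1_perp hF hy ha he₁]
    have p2 : polar (⇑(Qf F)) e₂ a = 0 := by rw [polar_comm, V1_perp hF hy ha he₂]
    rw [map_add, h1 a ha, h2 b hb, QuadraticMap.polar_add_right, QuadraticMap.polar_add_right, p1, p2, zero_add,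
      zero_add]
    -- decompose `b`
    have h3 : (2 : F) • b - ((Qf F e₂)⁻¹ * polar (⇑(Qf F)) e₂ b) • e₂ - ((Qf F e₁)⁻¹ * polar (⇑(Qf F)) e₁ b) • e₁ = 0 := by
      refine eq_zero_of_perp hF hy he₁ he₂ hQ₁ hQ₂ h12 ?_ ?_ ?_
      · exact (fixS (rep F y)).sub_mem ((fixS (rep F y)).sub_mem ((fixS (rep F y)).smul_mem _ hb)
          ((fixS (rep F y)).smul_mem _ he₂)) ((fixS (rep F y)).smul_mem _ he₁)
      · rw [QuadraticMap.polar_sub_right, QuadraticMap.polar_sub_right, QuadraticMap.polar_smul_right,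
          QuadraticMap.polar_smul_right, QuadraticMap.polar_smul_right, h12, Reflection.polar_self', smul_zero, sub_zero,
          smul_eq_mul, smul_eq_mul]
        field_simp
        ring
      · rw [QuadraticMap.polar_sub_right, QuadraticMap.polar_sub_right, QuadraticMap.polar_smul_right,
          QuadraticMap.polar_smul_right, QuadraticMap.polar_smul_right, h21, Reflection.polar_self', smul_zero, sub_zero,
          smul_eq_mul, smul_eq_mul]
        field_simp
        ring
    have h4 : ((Qf F e₂)⁻¹ * polar (⇑(Qf F)) e₂ b) • e₂ + ((Qf F e₁)⁻¹ * polar (⇑(Qf F)) e₁ b) • e₁ = (2 : F) • b := by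
      have h5 := sub_eq_zero.1 (by rw [sub_sub] at h3; exact h3)
      exact h5.symm
    calc a + -b = a + b - (2 : F) • b := by rw [two_smul]; abel
      _ = _ := by rw [← h4]; abel
  have h3 := spinor_eq_one u
  rw [heq, map_mul, spinorSign_reflIso h2F (Qf F) one_ne_zero e₁ hQ₁, spinorSign_reflIso h2F (Qf F) one_ne_zero e₂ hQ₂,
    one_mul, one_mul] at h3
  have h5 := five_zero hF
  have n1 : (2 : F) ≠ 1 := fun h => one_ne_zero (α := F) (by linear_combination h)
  have n2 : (2 : F) ≠ -1 := fun h => three_ne hF (by linear_combination h)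
  have n3 : (-2 : F) ≠ 1 := fun h => three_ne hF (by linear_combination -h)
  have n4 : (-2 : F) ≠ -1 := fun h => one_ne_zero (α := F) (by linear_combination -h)
  have m1 : IsSquare (1 : F) := ⟨1, by ring⟩
  have m2 : IsSquare (-1 : F) := ⟨2, by linear_combination -h5⟩
  have m3 : ¬ IsSquare (2 : F) := fun h => by
    rcases (isSquare_iff hF h2F).1 h with h | h
    · exact n1 h
    · exact n2 h
  have m4 : ¬ IsSquare (-2 : F) := fun h => by
    rcases (isSquare_iff hF (neg_ne_zero.2 h2F)).1 h with h | h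
    · exact n3 h
    · exact n4 h
  have key : IsSquare (Qf F e₁) ↔ ¬ IsSquare (Qf F e₂) := by
    rcases cases4 hF hQ₁ with h | h | h | h <;> rcases hd with h' | h' <;> rw [h', h]
    · rw [mul_one]; exact ⟨fun _ => m3, fun _ => m1⟩
    · rw [mul_one]; exact ⟨fun _ => m4, fun _ => m1⟩
    · rw [show (2 : F) * -1 = -2 by ring]; exact ⟨fun _ => m4, fun _ => m2⟩
    · rw [show -((2 : F) * -1) = 2 by ring]; exact ⟨fun _ => m3, fun _ => m2⟩
    · rw [show (2 : F) * 2 = -1 by linear_combination h5]; exact ⟨fun h => absurd h m3, fun h => absurd m2 h⟩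
    · rw [show -((2 : F) * 2) = 1 by linear_combination -h5]; exact ⟨fun h => absurd h m3, fun h => absurd m1 h⟩
    · rw [show (2 : F) * -2 = 1 by linear_combination -h5]; exact ⟨fun h => absurd h m4, fun h => absurd m1 h⟩
    · rw [show -((2 : F) * -2) = -1 by linear_combination h5]; exact ⟨fun h => absurd h m4, fun h => absurd m2 h⟩
  by_cases hs : IsSquare (Qf F e₁)
  · rw [if_pos hs, if_neg (key.1 hs)] at h3
    revert h3
    decide
  · have hs2 : IsSquare (Qf F e₂) := by
      by_contra hcon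
      exact hs (key.2 hcon)
    rw [if_neg hs, if_pos hs2] at h3
    revert h3
    decide

/-- involutions of `C_Ω(y)` trivial on `V₁` -/
theorem eq_one_of_V1 {u : Cfsg.Omega F (⇑(quadPlus 4 F))} (huy : y * u = u * y) (huu : u * u = 1)
    (h1 : ∀ v ∈ LinearMap.range (rep F y - 1), rep F u v = v) : u = 1 := by
  by_cases hneg : ∀ v ∈ fixS (rep F y), rep F u v = -v
  · exact (no_neg hF hy h1 hneg).elim
  push Not at hneg
  obtain ⟨v, hv, hv1⟩ := hneg
  have huv : rep F u v ∈ fixS (rep F y) := by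
    show rep F y (rep F u v) = rep F u v
    rw [← Module.End.mul_apply, ← map_mul, huy, map_mul, Module.End.mul_apply, show rep F y v = v from hv]
  set e := v + rep F u v with he
  have he0 : e ≠ 0 := fun h => hv1 (eq_neg_of_add_eq_zero_right h)
  have heC : e ∈ fixS (rep F y) := (fixS (rep F y)).add_mem hv huv
  have hue : rep F u e = e := by
    rw [he, map_add, ← Module.End.mul_apply, ← map_mul, huu, map_one, Module.End.one_apply, add_comm]
  refine eq_one_of_hyperplane quadPlus_nondegenerate (by simp) (by simp; decide) u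
    (LinearMap.range (rep F y - 1) ⊔ Submodule.span F {e}) ?_ ?_
  · have h2 := Submodule.finrank_sup_add_finrank_inf_eq (LinearMap.range (rep F y - 1)) (Submodule.span F {e})
    have h3 : LinearMap.range (rep F y - 1) ⊓ Submodule.span F {e} = ⊥ := by
      rw [eq_bot_iff, ← inf_bot hF hy]
      exact inf_le_inf_left _ ((Submodule.span_singleton_le_iff_mem _ _).2 heC)
    rw [h3, finrank_bot, finrank_V1 hF hy, finrank_span_singleton he0] at h2
    have h5 : Fintype.card (Fin 4 ⊕ Fin 4) = 8 := by simp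
    rw [h5]
    omega
  · intro w hw
    obtain ⟨a, ha, b, hb, rfl⟩ := Submodule.mem_sup.1 hw
    obtain ⟨c, rfl⟩ := Submodule.mem_span_singleton.1 hb
    show rep F u (a + c • e) = a + c • e
    rw [map_add, map_smul, h1 a ha, hue]

omit hy hF in
theorem exists_neg : ∃ m : Cfsg.Omega F (⇑(quadPlus 4 F)), ∀ v, rep F m v = -v := by
  have h := Cfsg.Agent.S0790.exists_of_even (F := F) 4 (by decide)
  rw [← coe_quadPlus] at h
  obtain ⟨g, hg, hg'⟩ := h
  refine ⟨⟨g, hg⟩, fun v => ?_⟩
  show ((g : Matrix.GeneralLinearGroup (Fin 4 ⊕ Fin 4) F) : Matrix (Fin 4 ⊕ Fin 4) (Fin 4 ⊕ Fin 4) F) *ᵥ v = -v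
  rw [hg', Matrix.neg_mulVec, Matrix.one_mulVec]

omit hy hF in
/-- the subgroup `±1` -/
def Zs (F : Type) [Field F] [Fintype F] : Subgroup (Cfsg.Omega F (⇑(quadPlus 4 F))) where
  carrier := {u | (∀ v, rep F u v = v) ∨ (∀ v, rep F u v = -v)}
  one_mem' := Or.inl fun v => by rw [map_one]; rfl
  mul_mem' := fun {a b} ha hb => by
    rcases ha with ha | ha <;> rcases hb with hb | hb
    · exact Or.inl fun v => by rw [map_mul, Module.End.mul_apply, hb, ha]
    · exact Or.inr fun v => by rw [map_mul, Module.End.mul_apply, hb, ha]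
    · exact Or.inr fun v => by rw [map_mul, Module.End.mul_apply, hb, ha]
    · exact Or.inl fun v => by rw [map_mul, Module.End.mul_apply, hb, ha, neg_neg]
  inv_mem' := fun {a} ha => by
    rcases ha with ha | ha
    · refine Or.inl fun v => ?_
      nth_rewrite 1 [← ha v]
      rw [← Module.End.mul_apply, ← map_mul, inv_mul_cancel, map_one]; rfl
    · refine Or.inr fun v => ?_
      have h1 : rep F a⁻¹ (rep F a v) = v := by
        rw [← Module.End.mul_apply, ← map_mul, inv_mul_cancel, map_one]; rfl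
      rw [ha v, map_neg] at h1
      exact neg_eq_iff_eq_neg.1 h1

omit hy hF in
theorem Zs_center : Zs F ≤ Subgroup.center _ := by
  intro u hu
  rw [Subgroup.mem_center_iff]
  intro g
  apply rep_injective
  refine LinearMap.ext fun v => ?_
  rw [map_mul, map_mul, Module.End.mul_apply, Module.End.mul_apply]
  rcases hu with hu | hu
  · rw [hu, hu]
  · rw [hu, hu, map_neg]

omit hy hF in
theorem Zs_sq : ∀ x ∈ Zs F, x * x = 1 := by
  intro u hu
  apply rep_injective
  refine LinearMap.ext fun v => ?_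
  rw [map_mul, Module.End.mul_apply, map_one, Module.End.one_apply]
  rcases hu with hu | hu
  · rw [hu, hu]
  · rw [hu, hu, neg_neg]

theorem range_inv : ∀ v ∈ LinearMap.range (rep F y - 1), rep F y v ∈ LinearMap.range (rep F y - 1) := by
  rintro _ ⟨w, rfl⟩
  refine ⟨rep F y w, ?_⟩
  rw [LinearMap.sub_apply, LinearMap.sub_apply, Module.End.one_apply, Module.End.one_apply, map_sub]

theorem range_comm {u : Cfsg.Omega F (⇑(quadPlus 4 F))} (huy : y * u = u * y) :
    ∀ v ∈ LinearMap.range (rep F y - 1), rep F u v ∈ LinearMap.range (rep F y - 1) := by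
  rintro _ ⟨w, rfl⟩
  refine ⟨rep F u w, ?_⟩
  rw [LinearMap.sub_apply, LinearMap.sub_apply, Module.End.one_apply, Module.End.one_apply, map_sub,
    ← Module.End.mul_apply, ← map_mul, huy, map_mul, Module.End.mul_apply]

/-- the case `u² = 1` -/
theorem caseA {u : Cfsg.Omega F (⇑(quadPlus 4 F))} (huy : y * u = u * y) (huu : u * u = 1) : u ∈ Zs F := by
  have hcom : ∀ v, rep F y (rep F u v) = rep F u (rep F y v) := fun v => by
    rw [← Module.End.mul_apply, ← map_mul, huy, map_mul, Module.End.mul_apply]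
  rcases irr hF hy (LinearMap.range (rep F y - 1) ⊓ fixS (rep F u)) inf_le_left (fun v hv =>
    ⟨range_inv hF hy v hv.1, by
      show rep F u (rep F y v) = rep F y v
      rw [← hcom, show rep F u v = v from hv.2]⟩) with h | h
  · obtain ⟨m, hm⟩ := exists_neg (F := F)
    have h1 : m * u = 1 := by
      refine eq_one_of_V1 hF hy ?_ ?_ ?_
      · apply rep_injective
        refine LinearMap.ext fun v => ?_
        simp only [map_mul, Module.End.mul_apply]
        rw [hm, hm, map_neg, hcom]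
      · apply rep_injective
        refine LinearMap.ext fun v => ?_
        simp only [map_mul, Module.End.mul_apply]
        rw [hm, hm, map_neg, neg_neg, ← Module.End.mul_apply, ← map_mul, huu]
      · intro v hv
        rw [map_mul, Module.End.mul_apply, hm]
        have h2 : v + rep F u v ∈ LinearMap.range (rep F y - 1) ⊓ fixS (rep F u) := by
          refine ⟨Submodule.add_mem _ hv (range_comm hF hy huy v hv), ?_⟩
          show rep F u (v + rep F u v) = v + rep F u v
          rw [map_add, ← Module.End.mul_apply, ← map_mul, huu, map_one, Module.End.one_apply, add_comm]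
        rw [h, Submodule.mem_bot] at h2
        rw [eq_neg_of_add_eq_zero_right h2, neg_neg]
    right
    intro v
    have h2 : rep F m (rep F u v) = v := by
      rw [← Module.End.mul_apply, ← map_mul, h1, map_one]; rfl
    rw [hm] at h2
    exact neg_eq_iff_eq_neg.1 h2
  · have h1 : u = 1 := eq_one_of_V1 hF hy huy huu fun v hv => by
      rw [← h] at hv
      exact hv.2
    rw [h1]
    exact one_mem _

/-- the case `u² = -1` -/
theorem caseB {u : Cfsg.Omega F (⇑(quadPlus 4 F))} (huy : y * u = u * y) (huu : ∀ v, rep F u (rep F u v) = -v) :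
    False := by
  have h5 := five_zero hF
  have hcom : ∀ v, rep F y (rep F u v) = rep F u (rep F y v) := fun v => by
    rw [← Module.End.mul_apply, ← map_mul, huy, map_mul, Module.End.mul_apply]
  -- `u = c` on `V₁` is impossible
  have hno : ∀ c : F, c * c = -1 → ¬ (∀ v ∈ LinearMap.range (rep F y - 1), rep F u v = c • v) := by
    intro c hc h
    have h1 : ∀ v ∈ LinearMap.range (rep F y - 1), ∀ w ∈ LinearMap.range (rep F y - 1), polar (⇑(Qf F)) v w = 0 := by
      intro v hv w hw
      have h2 := rep_B u v w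
      rw [h v hv, h w hw, QuadraticMap.polar_smul_left, QuadraticMap.polar_smul_right, smul_eq_mul, smul_eq_mul,
        ← mul_assoc, hc] at h2
      have h3 : 2 * polar (⇑(Qf F)) v w = 0 := by linear_combination -h2
      exact (mul_eq_zero.1 h3).resolve_left (two_ne hF)
    have h2 : LinearMap.range (rep F y - 1) = ⊥ := by
      rw [Submodule.eq_bot_iff]
      intro v hv
      have h3 : ∀ w, polar (⇑(Qf F)) v w = 0 := by
        intro w
        obtain ⟨a, ha, b, hb, rfl⟩ := Submodule.mem_sup.1 (sup_top hF hy ▸ (Submodule.mem_top : w ∈ ⊤))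
        rw [QuadraticMap.polar_add_right, h1 v hv a ha, V1_perp hF hy hv hb, add_zero]
      have hnd : (polarBilin (Qf F)).Nondegenerate := quadPlus_nondegenerate
      exact hnd.1 v h3
    have h3 := finrank_V1 hF hy
    rw [h2, finrank_bot] at h3
    norm_num at h3
  let W : Submodule F (Fin 4 ⊕ Fin 4 → F) :=
    LinearMap.range (rep F y - 1) ⊓ LinearMap.ker (rep F u - (2 : F) • (1 : (Fin 4 ⊕ Fin 4 → F) →ₗ[F] _))
  have hW : ∀ v, v ∈ W ↔ v ∈ LinearMap.range (rep F y - 1) ∧ rep F u v = (2 : F) • v := by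
    intro v
    show v ∈ _ ∧ v ∈ LinearMap.ker _ ↔ _
    rw [LinearMap.mem_ker, LinearMap.sub_apply, LinearMap.smul_apply, Module.End.one_apply, sub_eq_zero]
    exact Iff.rfl
  rcases irr hF hy W inf_le_left (fun v hv => by
    rw [hW] at hv ⊢
    exact ⟨range_inv hF hy v hv.1, by rw [← hcom, hv.2, map_smul]⟩) with h | h
  · refine hno (-2) (by linear_combination h5) fun v hv => ?_
    have h1 : rep F u v + (2 : F) • v ∈ W := by
      rw [hW]
      refine ⟨Submodule.add_mem _ (range_comm hF hy huy v hv) (Submodule.smul_mem _ _ hv), ?_⟩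
      rw [map_add, map_smul, huu, smul_add, smul_smul, show (2 : F) * 2 = -1 by linear_combination h5, neg_smul,
        one_smul, add_comm]
    rw [h, Submodule.mem_bot] at h1
    rw [neg_smul]
    exact eq_neg_of_add_eq_zero_left h1
  · refine hno 2 (by linear_combination h5) fun v hv => ?_
    rw [← h, hW] at hv
    exact hv.2

/-- **(H1)** -/
theorem mem_Zs : ∀ (k : ℕ) (u : Cfsg.Omega F (⇑(quadPlus 4 F))), u ^ 2 ^ k = 1 → y * u = u * y → u ∈ Zs F := by
  intro k
  induction k with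
  | zero =>
    intro u hu _
    rw [pow_zero, pow_one] at hu
    rw [hu]
    exact one_mem _
  | succ k ih =>
    intro u hu huy
    have h1 : u * u ∈ Zs F := by
      refine ih (u * u) ?_ ?_
      · rw [← pow_two, ← pow_mul, ← pow_succ']
        exact hu
      · rw [← mul_assoc, huy, mul_assoc, huy, mul_assoc]
    rcases h1 with h1 | h1
    · refine caseA hF hy huy ?_
      apply rep_injective
      exact LinearMap.ext fun v => by rw [h1 v, map_one]; rfl
    · exact (caseB hF hy huy fun v => by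
        rw [← h1 v, map_mul]; rfl).elim

end Y

/-! ### The row -/

theorem card_pomega (hF : Fintype.card F = 5) :
    Nat.card (Cfsg.POmega F (⇑(quadPlus 4 F))) = 8911539000000000000 := by
  have h1 := Cfsg.Agent.S0293.result hF 4 le_rfl
  rw [← coe_quadPlus] at h1
  have e1 : Nat.gcd 4 (5 ^ 4 - 1) = 4 := by norm_num
  rw [e1] at h1
  simp only [Finset.prod_range_succ, Finset.prod_range_zero] at h1
  norm_num at h1
  omega

theorem card_omega (hF : Fintype.card F = 5) : Nat.card (Cfsg.Omega F (⇑(quadPlus 4 F))) =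
    8911539000000000000 * Nat.card (Subgroup.center (Cfsg.Omega F (⇑(quadPlus 4 F)))) := by
  rw [← card_pomega hF]
  exact Subgroup.card_eq_card_quotient_mul_card_subgroup _

/-- prime powers dividing `|Ω|` -/
theorem pow_dvd (hF : Fintype.card F = 5) {t k : ℕ} (ht : t.Prime) (ht2 : t ≠ 2)
    (h : t ^ k ∣ Nat.card (Cfsg.Omega F (⇑(quadPlus 4 F)))) : t ^ k ∣ 8911539000000000000 := by
  rw [card_omega hF] at h
  have h1 := not_dvd_center_omega (F := F) (Q := quadPlus 4 F) quadPlus_nondegenerate (by simp) iso_plus ht ht2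
  exact (Nat.Coprime.pow_left k ((Nat.Prime.coprime_iff_not_dvd ht).2 h1)).dvd_of_dvd_mul_right h

/-- the `t`-groups, `t ≠ 2, 5, 7` -/
theorem cent_big (hF : Fintype.card F = 5) {y : Cfsg.Omega F (⇑(quadPlus 4 F))} (hy : orderOf y = 7) {t : ℕ}
    (ht : t.Prime) (ht7 : t ≠ 7) (ht2 : t ≠ 2) (ht5 : t ≠ 5) {T : Subgroup (Cfsg.Omega F (⇑(quadPlus 4 F)))}
    (hT : IsPGroup t T) (hyT : ∀ u ∈ T, y * u * y⁻¹ ∈ T) : ∀ u ∈ T, y * u = u * y := by
  have hp : Nat.Prime 7 := by norm_num
  have htf : Fact t.Prime := ⟨ht⟩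
  obtain ⟨k, hk⟩ := IsPGroup.iff_card.1 hT
  have h1 : t ^ k ∣ 2 ^ 12 * 3 ^ 5 * 5 ^ 12 * 7 * 13 ^ 2 * 31 := by
    have h0 : t ^ k ∣ Nat.card (Cfsg.Omega F (⇑(quadPlus 4 F))) := hk ▸ Subgroup.card_subgroup_dvd_card T
    have := pow_dvd hF ht ht2 h0
    rwa [show 2 ^ 12 * 3 ^ 5 * 5 ^ 12 * 7 * 13 ^ 2 * 31 = 8911539000000000000 by norm_num]
  by_cases hk0 : k = 0
  · have : T = ⊥ := Subgroup.card_eq_one.1 (by rw [hk, hk0, pow_zero])
    intro u hu
    rw [this, Subgroup.mem_bot] at hu
    rw [hu, mul_one, one_mul]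
  have htd : t ∣ 2 ^ 12 * 3 ^ 5 * 5 ^ 12 * 7 * 13 ^ 2 * 31 := (dvd_pow_self t hk0).trans h1
  have ht' : t = 3 ∨ t = 13 ∨ t = 31 := by
    have hpp : ∀ {a : ℕ}, a.Prime → ∀ n, t ∣ a ^ n → t = a := fun ha n h =>
      (Nat.prime_dvd_prime_iff_eq ht ha).1 (ht.dvd_of_dvd_pow h)
    rcases (ht.dvd_mul).1 htd with h | h
    · rcases (ht.dvd_mul).1 h with h | h
      · rcases (ht.dvd_mul).1 h with h | h
        · rcases (ht.dvd_mul).1 h with h | h
          · rcases (ht.dvd_mul).1 h with h | h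
            · exact absurd (hpp Nat.prime_two _ h) ht2
            · exact Or.inl (hpp Nat.prime_three _ h)
          · exact absurd (hpp Nat.prime_five _ h) ht5
        · exact absurd ((Nat.prime_dvd_prime_iff_eq ht hp).1 h) ht7
      · exact Or.inr (Or.inl (hpp (by norm_num) _ h))
    · exact Or.inr (Or.inr ((Nat.prime_dvd_prime_iff_eq ht (by norm_num)).1 h))
  clear htd
  rcases ht' with rfl | rfl | rfl
  · have hj2 : k ≤ 5 := by
      by_contra h
      have h2 : 3 ^ 6 ∣ 2 ^ 12 * 3 ^ 5 * 5 ^ 12 * 7 * 13 ^ 2 * 31 := (pow_dvd_pow 3 (by omega)).trans h1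
      revert h2
      norm_num
    clear h1
    refine cent_of_order hp hy ht ht7 hk hyT ?_
    intro j hj hjk
    have : j ≤ 5 := by omega
    interval_cases j <;> norm_num
  · have hj2 : k ≤ 2 := by
      by_contra h
      have h2 : 13 ^ 3 ∣ 2 ^ 12 * 3 ^ 5 * 5 ^ 12 * 7 * 13 ^ 2 * 31 := (pow_dvd_pow 13 (by omega)).trans h1
      revert h2
      norm_num
    clear h1
    by_cases hk2 : k = 2
    · exact cent_169 hF (rep F) rep_injective finrank_V hy (by rw [hk, hk2]) hyT
    · refine cent_of_order hp hy ht ht7 hk hyT ?_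
      intro j hj hjk
      have : j = 1 := by omega
      rw [this]
      norm_num
  · have hj2 : k ≤ 1 := by
      by_contra h
      have h2 : 31 ^ 2 ∣ 2 ^ 12 * 3 ^ 5 * 5 ^ 12 * 7 * 13 ^ 2 * 31 := (pow_dvd_pow 31 (by omega)).trans h1
      revert h2
      norm_num
    clear h1
    refine cent_of_order hp hy ht ht7 hk hyT ?_
    intro j hj hjk
    have : j = 1 := by omega
    rw [this]
    norm_num

/-- **Solvable subgroups containing `y z`.** -/
theorem elc_omega (hF : Fintype.card F = 5) {y z : Cfsg.Omega F (⇑(quadPlus 4 F))} (hy : orderOf y = 7)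
    (hz : z ^ 3 = 1) (hyz : y * z = z * y) (hV : ∀ v, rep F y (rep F z v - v) = rep F z v - v)
    (hd : finrank F (fixS (rep F z)) = 6) : Elc 7 (y * z) y := by
  have hp : Nat.Prime 7 := by norm_num
  have hy7 : y ^ 7 = 1 := by rw [← hy, pow_orderOf_eq_one]
  obtain ⟨hpF, hord, h2e⟩ := omega_facts hF
  refine elc_of3 hp hy hz (by norm_num) hyz ?_ (commuting_of_rep (rep F) rep_injective hp hpF h2e)
  intro M hM hyM hzM t ht ht7 T hTM hTn hT
  by_cases ht2 : t = 2
  · subst ht2
    have h1 : T ≤ Zs F := by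
      refine two_group hy7 hyz Zs_center Zs_sq (fun u ⟨k, hk⟩ huy => mem_Zs hF hy k u hk huy) ?_ _ T rfl hT
        (hTn y hyM) (hTn z hzM)
      intro S h2 hyS hzS hCy
      have hS : IsPGroup 2 S := fun u => ⟨1, Subtype.ext (by
        rw [pow_one, pow_two]; exact h2 u u.2)⟩
      refine no_elem (rep F) rep_injective (two_ne hF) hy7 hz hyz (by rw [finrank_V]; norm_num) S h2 hyS hzS hCy ?_
      intro u hu huz
      refine hCy u hu ?_
      refine cent_three (rep F) rep_injective hp (by norm_num) (two_ne hF) (three_ne hF) hy hz hyz hV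
        (Or.inr ⟨by rw [hd], ?_⟩) hS hyS u hu huz.symm
      rw [hd]
      rintro ⟨k, hk⟩
      have hk3 : k < 3 := by
        by_contra hcon
        have : 2 ^ 3 ≤ 2 ^ k := Nat.pow_le_pow_right (by norm_num) (by omega)
        omega
      interval_cases k <;> omega
    intro u hu
    exact Subgroup.mem_center_iff.1 (Zs_center (h1 hu)) y
  by_cases ht5 : t = 5
  · subst ht5
    have h1 : T = ⊥ := core_plus (m := 4) (q := 5) (a := 1) (y := y) hF (by norm_num) hp (by norm_num) le_rfl
      ord_seven_five (by rw [hy, pow_one]) M hM hyM 5 (by norm_num) (by rw [hF]) T hTM hTn hT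
    intro u hu
    rw [h1, Subgroup.mem_bot] at hu
    rw [hu, mul_one, one_mul]
  · exact cent_big hF hy ht ht7 ht2 ht5 hT (hTn y hyM)

/-- **`AS2` for `PΩ⁺₈(5)`.** -/
theorem as2_five (hF : Fintype.card F = 5) [IsSimpleGroup (Cfsg.POmega F (⇑(quadPlus 4 F)))]
    (hna : ¬ IsMulCommutative (Cfsg.POmega F (⇑(quadPlus 4 F)))) : AS2 (Cfsg.POmega F (⇑(quadPlus 4 F))) := by
  have hp : Nat.Prime 7 := by norm_num
  have : Fact (Nat.Prime 7) := ⟨hp⟩
  obtain ⟨hpF, hord, h2e⟩ := omega_facts hF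
  have hcard := card_pomega hF
  have hcz : ¬ 7 ∣ Nat.card (Subgroup.center (Cfsg.Omega F (⇑(quadPlus 4 F)))) :=
    not_dvd_center_omega (F := F) (Q := quadPlus 4 F) quadPlus_nondegenerate (by simp) iso_plus hp (by norm_num)
  have hdv : 7 ∣ Nat.card (Cfsg.Omega F (⇑(quadPlus 4 F))) := by
    rw [card_omega hF]
    exact Dvd.dvd.mul_right (by norm_num) _
  obtain ⟨y, hy⟩ := exists_prime_orderOf_dvd_card' 7 hdv
  obtain ⟨z, hzz, hyz, hV, hd⟩ := exists_z hF hy
  have hel := elc_omega hF hy hzz hyz hV hd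
  obtain ⟨hoy, hmem, huel⟩ := row_of_elc3 hp (by norm_num) hy hzz hyz hel hcz
  have hout : ¬ 7 ∣ Nat.card (Cfsg.Out (Cfsg.POmega F (⇑(quadPlus 4 F)))) := by
    have hf3 : Fact (Nat.Prime 5) := ⟨by norm_num⟩
    have h1 := H149.PGO.card_out_plus (F := F) (p := 5) (f := 1) (m := 4) le_rfl (by rw [hF, pow_one]) le_rfl
    rw [← coe_quadPlus] at h1
    intro h2
    have h3 := h2.trans h1
    revert h3
    norm_num
  have hr : H479.AS.GRow (Cfsg.POmega F (⇑(quadPlus 4 F))) 7 _ _ :=
    { hp := hp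
      h5 := by norm_num
      ord := hoy
      mem := hmem
      su := huel
      full := by rw [hcard]; norm_num
      out := hout }
  refine H479.AS.of_lt_g hna hr (c := 6048) (b := 19656) ?_ ?_ (by norm_num)
  · have h1 := cent_quot hp hcz (c := (125 + 1) * 48) (fun w hw => ?_) _ hoy
    · have h2 : 0 < Nat.card (Subgroup.center (Cfsg.Omega F (⇑(quadPlus 4 F)))) := Nat.card_pos
      exact (Nat.le_mul_of_pos_right _ h2).trans h1
    · refine (cent_le (rep F) rep_injective (frm_polar quadPlus_nondegenerate)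
        (fun x y z => polar_add_left (quadPlus 4 F) x y z) (RingHom.id F) (fun c x y => ?_)
        (fun g u v => omHom_polar _ g u v) hp hpF h2e hw (Q := 125) (by rw [hord, hF]; norm_num)).trans
        (Nat.mul_le_mul_left _ (card_K1_plus (m := 4) (q := 5) hF (by norm_num) hp (by norm_num) ord_seven_five hw))
      show polar (⇑(quadPlus 4 F)) (c • x) y = c * polar (⇑(quadPlus 4 F)) x y
      rw [polar_smul_left, smul_eq_mul]
  · rw [coe_quadPlus]
    intro H hH
    have h1 := (Cfsg.Agent.S2145.result hF (by norm_num) 4 le_rfl).1 H hH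
    exact le_trans (by norm_num) h1

/-- **The row `PΩ⁺₈(5)`.** -/
theorem row {K : Type u} [Group K] [Finite K] [IsSimpleGroup K] (hna : ¬ IsMulCommutative K)
    (hF : Fintype.card F = 5) (e : K ≃* Cfsg.POmega F (Cfsg.quadFormPlus 4 F)) : AS2 K := by
  rw [← coe_quadPlus] at e
  have : IsSimpleGroup (Cfsg.POmega F (⇑(quadPlus 4 F))) := e.symm.isSimpleGroup
  refine AS2.congr e.symm (as2_five hF fun h => hna ⟨⟨fun a b => ?_⟩⟩)
  apply e.injective
  rw [map_mul, map_mul]
  exact h.is_comm.comm _ _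

end Cfsg.Agent.H99.AS.OFive
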