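import Cfsg.Agent.H965.ASCrit

/-!
# S3943: a criterion for `AS2` with an element `s` of composite order (helper99)

`Uel p s` : every solvable subgroup containing `s` has at most one subgroup of order `p`.

* `of_uel` : `AS2 S` if `A ≤ ⟨s⟩` has order `p` and `2 (p - 1) |C_S(A)| < |S : H|` for all proper subgroups `H`.
-/

set_option autoImplicit false
set_option linter.unusedSectionVars false

namespace Cfsg.Agent.H99.AS

open Cfsg Subgroup Cfsg.Agent.H465.SU Cfsg.Agent.H465.Red Cfsg.Agent.H965.AS

universe u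

variable {S : Type u} [Group S]

/-- every solvable subgroup containing `s` has (at most) one subgroup of order `p` -/
def Uel (p : ℕ) (s : S) : Prop :=
  ∀ M : Subgroup S, Group.IsSolvable M → s ∈ M → ∀ A B : Subgroup S, A ≤ M → B ≤ M → Nat.card A = p → Nat.card B = p →
    A = B

theorem Uel.conj {p : ℕ} {s : S} (h : Uel p s) (g : S) : Uel p (MulAut.conj g s) := by
  intro M hM hs A B hA hB hAc hBc
  have hcard : ∀ (B : Subgroup S) (e : MulAut S), Nat.card (B.map e.toMonoidHom) = Nat.card B := fun B e =>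
    card_map_of_injective e.injective
  have hsol : Group.IsSolvable (M.map (MulAut.conj g⁻¹).toMonoidHom) :=
    Group.isSolvable_of_surjective (f := (MulAut.conj g⁻¹).toMonoidHom.subgroupMap M)
      (MonoidHom.subgroupMap_surjective _ _)
  have hmem : s ∈ M.map (MulAut.conj g⁻¹).toMonoidHom := ⟨_, hs, by
    show g⁻¹ * (g * s * g⁻¹) * (g⁻¹)⁻¹ = s
    group⟩
  have h1 := h _ hsol hmem (A.map (MulAut.conj g⁻¹).toMonoidHom) (B.map (MulAut.conj g⁻¹).toMonoidHom)
    (map_mono hA) (map_mono hB) (by rw [hcard, hAc]) (by rw [hcard, hBc])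
  exact Subgroup.map_injective (MulAut.conj g⁻¹).injective h1

theorem mem_bad_of_solvable' (hcen : center S = ⊥) {p : ℕ} {y : S} (hy : Uel p y) {A : Subgroup S}
    (hA : A ≤ zpowers y) (hAc : Nat.card A = p) {x : MulAut S} {g : S}
    (h : Group.IsSolvable (closure ({x, MulAut.conj (g * y * g⁻¹)} : Set (MulAut S)))) : g ∈ Bad A x := by
  have hu := hy.conj g
  set M := closure ({x, MulAut.conj (g * y * g⁻¹)} : Set (MulAut S)) with hM
  have hHs : Group.IsSolvable (M.comap (MulAut.conj : S →* MulAut S)) := by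
    let f : M.comap (MulAut.conj : S →* MulAut S) →* M :=
      ((MulAut.conj : S →* MulAut S).comp (M.comap (MulAut.conj : S →* MulAut S)).subtype).codRestrict M fun g => g.2
    refine Group.isSolvable_of_isSolvable_injective (f := f) ?_
    intro a b hab
    exact Subtype.ext (conj_injective hcen (congrArg Subtype.val hab))
  have hxM : x ∈ M := subset_closure (by simp)
  have hyM : MulAut.conj g y ∈ M.comap (MulAut.conj : S →* MulAut S) := by
    show MulAut.conj (g * y * g⁻¹) ∈ M
    exact subset_closure (by simp)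
  have hle : A.map (MulAut.conj g).toMonoidHom ≤ M.comap (MulAut.conj : S →* MulAut S) := by
    rintro _ ⟨u, hu', rfl⟩
    obtain ⟨i, rfl⟩ := mem_zpowers_iff.1 (hA hu')
    have : (MulAut.conj g).toMonoidHom (y ^ i) = (MulAut.conj g y) ^ i := by
      show MulAut.conj g (y ^ i) = _
      rw [map_zpow]
    rw [this]
    exact zpow_mem hyM i
  have hle2 : (A.map (MulAut.conj g).toMonoidHom).map x.toMonoidHom ≤ M.comap (MulAut.conj : S →* MulAut S) := by
    rintro _ ⟨u, hu', rfl⟩
    have h1 : MulAut.conj u ∈ M := hle hu'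
    show MulAut.conj (x u) ∈ M
    have e : (MulAut.conj (x u) : MulAut S) = x * MulAut.conj u * x⁻¹ := by
      ext l
      simp
    rw [e]
    exact mul_mem (mul_mem hxM h1) (inv_mem hxM)
  have hcard : ∀ (B : Subgroup S) (e : MulAut S), Nat.card (B.map e.toMonoidHom) = Nat.card B := fun B e =>
    card_map_of_injective e.injective
  exact hu _ hHs hyM _ _ hle2 hle (by rw [hcard, hcard, hAc]) (by rw [hcard, hAc])

variable [Finite S]

/-- **The counting criterion.** -/
theorem of_half' (hcen : center S = ⊥) {p : ℕ} {y : S} (hy : Uel p y) {A : Subgroup S}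
    (hA : A ≤ zpowers y) (hAc : Nat.card A = p)
    (h : ∀ x : MulAut S, x ≠ 1 → 2 * (Bad A x).ncard < Nat.card S) : AS2 S := by
  intro a b ha hb
  by_contra hcon
  push Not at hcon
  have h1 : Bad A a ∪ Bad A b = Set.univ := by
    rw [Set.eq_univ_iff_forall]
    intro g
    by_cases hg : Group.IsSolvable (closure ({a, MulAut.conj (g * y * g⁻¹)} : Set (MulAut S)))
    · exact Or.inl (mem_bad_of_solvable' hcen hy hA hAc hg)
    · exact Or.inr (mem_bad_of_solvable' hcen hy hA hAc (hcon _ hg))
  have h2 := Set.ncard_union_le (Bad A a) (Bad A b)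
  rw [h1, Set.ncard_univ] at h2
  have h3 := h a ha
  have h4 := h b hb
  omega

/-- the number of automorphisms of a group of prime order -/
theorem card_mulAut {A : Type*} [Group A] {p : ℕ} (hp : p.Prime) (hA : Nat.card A = p) :
    Nat.card (MulAut A) = p - 1 := by
  have : Fact p.Prime := ⟨hp⟩
  have : Finite A := Nat.finite_of_card_ne_zero (by rw [hA]; exact hp.ne_zero)
  have h1 : IsCyclic A := isCyclic_of_prime_card hA
  have h2 := IsCyclic.card_mulAut A
  rw [h2, hA, Nat.totient_prime hp]

theorem bad_le {p : ℕ} (hp : p.Prime) {A : Subgroup S} (hAc : Nat.card A = p) (x : MulAut S) :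
    (Bad A x).ncard ≤ Nat.card (Fx x) * (Nat.card ↥(centralizer (A : Set S)) * (p - 1)) := by
  classical
  rcases Set.eq_empty_or_nonempty (Bad A x) with h | ⟨g, hg⟩
  · rw [h, Set.ncard_empty]
    exact Nat.zero_le _
  · have h1 := mem_bad.1 hg
    rw [← ncard_bad_conj A x g]
    have : Fintype (MulAut A) := Fintype.ofFinite _
    have h2 := card_bad_le_of_mem h1 Finset.univ (fun m hm _ => Finset.mem_univ _)
    rw [Finset.card_univ, ← Nat.card_eq_fintype_card, card_mulAut hp hAc] at h2
    refine h2.trans (Nat.mul_le_mul_right _ (le_of_eq ?_))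
    refine Nat.card_congr
      { toFun := fun u => ⟨g * u * g⁻¹, ?_⟩
        invFun := fun u => ⟨g⁻¹ * u * g, ?_⟩
        left_inv := fun u => Subtype.ext (by show g⁻¹ * (g * u * g⁻¹) * g = u; group)
        right_inv := fun u => Subtype.ext (by show g * (g⁻¹ * u * g) * g⁻¹ = u; group) }
    · have h3 : ((MulAut.conj g)⁻¹ * x * MulAut.conj g) (u : S) = u := u.2
      show x (g * u * g⁻¹) = g * u * g⁻¹
      have h4 : g⁻¹ * x (g * u * g⁻¹) * g = u := h3
      calc x (g * u * g⁻¹) = g * (g⁻¹ * x (g * u * g⁻¹) * g) * g⁻¹ := by group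
        _ = g * u * g⁻¹ := by rw [h4]
    · have h3 : x (u : S) = u := u.2
      show g⁻¹ * x (g * (g⁻¹ * u * g) * g⁻¹) * g = g⁻¹ * u * g
      rw [show g * (g⁻¹ * (u : S) * g) * g⁻¹ = u by group, h3]

/-- **The criterion.** -/
theorem of_uel (hcen : center S = ⊥) {p : ℕ} (hp : p.Prime) {s : S} (hs : Uel p s) {A : Subgroup S}
    (hA : A ≤ zpowers s) (hAc : Nat.card A = p)
    (hb : ∀ H : Subgroup S, H ≠ ⊤ → 2 * (Nat.card ↥(centralizer (A : Set S)) * (p - 1)) < H.index) : AS2 S := by
  refine of_half' hcen hs hA hAc fun x hx => ?_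
  have h1 := bad_le hp hAc x
  have h2 := hb _ (Fx_ne_top hx)
  have h3 := (Fx x).card_mul_index
  have h4 : 0 < Nat.card (Fx x) := Nat.card_pos
  calc 2 * (Bad A x).ncard ≤ 2 * (Nat.card (Fx x) * (Nat.card ↥(centralizer (A : Set S)) * (p - 1))) :=
        Nat.mul_le_mul_left _ h1
    _ = Nat.card (Fx x) * (2 * (Nat.card ↥(centralizer (A : Set S)) * (p - 1))) := by ring
    _ < Nat.card (Fx x) * (Fx x).index := Nat.mul_lt_mul_of_pos_left h2 h4
    _ = Nat.card S := h3

end Cfsg.Agent.H99.AS
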