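import Cfsg.Agent.H518.SURow
import Cfsg.Agent.H713.Spor.Fi22
import Cfsg.Agent.H225.AxB
import Cfsg.Agent.S2153

/-!
# S3943, the row `Fi₂₂` (helper99), part A

* `el_su`, `el_psu` : in `SU_6(2)`, `PSU_6(2)` every solvable subgroup containing an element `y` of order 11 has `⟨y⟩` as the
  only subgroup of order 11.
-/

set_option autoImplicit false
set_option linter.unusedSectionVars false

namespace Cfsg.Agent.H99.AS.Fi

open Cfsg Subgroup Module Cfsg.Agent.H518.SU Cfsg.Agent.H518.DghpFix Cfsg.Agent.H518.DghpPrim Cfsg.Agent.H518.DghpMat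
open Cfsg.Agent.SporRec.GF4

universe u v

theorem card_F4 : Fintype.card F4 = 2 ^ 2 := Cfsg.Agent.Fischer.Unit22.hF

theorem orderOf_four : orderOf ((4 : ℕ) : ZMod 11) = 5 := by
  have : Fact (Nat.Prime 5) := ⟨by norm_num⟩
  exact orderOf_eq_prime (by decide) (by decide)

theorem el_su {y : SU 6 F4 2} (hy : orderOf y = 11) : El 11 y := by
  have hp : Nat.Prime 11 := by norm_num
  have hF := card_F4
  have hd : finrank F4 (Fin 6 → F4) = 6 := finrank_fin
  have hpF : ¬ 11 ∣ Fintype.card F4 := by rw [hF]; norm_num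
  have ho : orderOf ((Fintype.card F4 : ℕ) : ZMod 11) = 5 := by rw [hF]; exact orderOf_four
  have h2e : finrank F4 (Fin 6 → F4) < 2 * orderOf ((Fintype.card F4 : ℕ) : ZMod 11) := by
    rw [hd, ho]; norm_num
  have hy' : orderOf y = 11 ^ 1 := by rw [hy, pow_one]
  refine el_of_size (matRep (suHom 6 F4 2)) (matRep_injective (suHom_injective _ _ _)) hp (by omega) le_rfl hpF h2e
    (Or.inl (by rw [hd]; norm_num)) hy' ?_
  refine core_fix_one (matRep (suHom 6 F4 2)) (matRep_injective (suHom_injective _ _ _)) (frm_herm hF) ?_ hp hpF h2e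
    (by rw [hd, ho]) le_rfl hy'
  intro g u v
  exact g.2 v u

theorem el_psu {y : PSU 6 F4 2} (hy : orderOf y = 11) : El 11 y := by
  have hp : Nat.Prime 11 := by norm_num
  have hc : Nat.card (Subgroup.center (SU 6 F4 2)) = 3 := by
    rw [Cfsg.Agent.S0279.result card_F4 6 (by norm_num)]
    rfl
  obtain ⟨g, rfl⟩ := QuotientGroup.mk'_surjective (Subgroup.center (SU 6 F4 2)) y
  set π := QuotientGroup.mk' (Subgroup.center (SU 6 F4 2)) with hπ
  have hk : π.ker = Subgroup.center (SU 6 F4 2) := QuotientGroup.ker_mk' _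
  have h11 : (π g) ^ 11 = 1 := by rw [← hy, pow_orderOf_eq_one]
  have h33 : g ^ 33 = 1 := by
    have h1 : g ^ 11 ∈ Subgroup.center (SU 6 F4 2) := by rw [← hk, MonoidHom.mem_ker, map_pow, h11]
    have h2 : (g ^ 11) ^ Nat.card (Subgroup.center (SU 6 F4 2)) = 1 :=
      congrArg Subtype.val (pow_card_eq_one' (x := (⟨g ^ 11, h1⟩ : Subgroup.center (SU 6 F4 2))))
    rw [hc, ← pow_mul] at h2
    exact h2
  have h12 : π (g ^ 12) = π g := by
    rw [map_pow, pow_succ, h11, one_mul]
  have ho : orderOf (g ^ 12) = 11 := by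
    have h1 : orderOf (g ^ 12) ∣ 11 := by
      rw [orderOf_dvd_iff_pow_eq_one, ← pow_mul, show 12 * 11 = 33 * 4 by norm_num, pow_mul, h33, one_pow]
    rcases (Nat.dvd_prime hp).1 h1 with h | h
    · rw [orderOf_eq_one_iff] at h
      rw [h, map_one] at h12
      rw [← h12, orderOf_one] at hy
      norm_num at hy
    · exact h
  rw [← h12]
  refine (el_su ho).map hp π (QuotientGroup.mk'_surjective _) ?_ ?_
  · rw [hk]
    exact Group.isSolvable_of_comm fun a b => Subtype.ext ((Subgroup.mem_center_iff.1 b.2) a)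
  · rw [hk, hc]; norm_num


/-! ### the counting argument: no group of order `3 ^ 5` is inverted by a transposition -/

section Count

open Cfsg.Agent.LThreeFi22

variable {K : Type v} [Group K] {T : Set K}

theorem comm_symm {a b : K} (h : a * b = b * a) : b * a = a * b := h.symm

/-- at most 170 transpositions commute with two noncommuting transpositions -/
theorem mu_le (C : Ctx K T) {a b : K} (ha : a ∈ T) (hb : b ∈ T) (hab : a * b ≠ b * a) :
    {c | c ∈ T ∧ a * c = c * a ∧ b * c = c * b}.ncard ≤ 170 := by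
  classical
  have := C.finite
  have hTf : T.Finite := Set.toFinite _
  -- the function `b ↦ {c}`
  set N : Set K := {c | c ∈ T ∧ c ≠ a ∧ a * c = c * a} with hN
  set E : Set K := {e | e ∈ T ∧ a * e ≠ e * a} with hE
  have hNc : N.ncard = 693 := C.link a ha
  have hEc : E.ncard = 2816 := by
    have h1 : E ∪ (insert a N) = T := by
      ext x
      simp only [hE, hN, Set.mem_union, Set.mem_ofPred_eq, Set.mem_insert_iff]
      constructor
      · rintro (h | h | h)
        · exact h.1
        · rw [h]; exact ha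
        · exact h.1
      · intro hx
        by_cases h : a * x = x * a
        · by_cases h2 : x = a
          · exact Or.inr (Or.inl h2)
          · exact Or.inr (Or.inr ⟨hx, h2, h⟩)
        · exact Or.inl ⟨hx, h⟩
    have h2 : Disjoint E (insert a N) := by
      rw [Set.disjoint_left]
      rintro x ⟨-, hx⟩ h
      rcases h with rfl | h
      · exact hx rfl
      · exact hx h.2.2
    have h3 := Set.ncard_union_eq h2 (Set.toFinite _) (Set.toFinite _)
    rw [h1, C.ncard, Set.ncard_insert_of_notMem (fun h => h.2.1 rfl) (Set.toFinite _), hNc] at h3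
    omega
  set M : K → Set K := fun e => {c | c ∈ T ∧ a * c = c * a ∧ e * c = c * e} with hM
  have hMN : ∀ e ∈ E, M e ⊆ N := by
    rintro e ⟨he, hae⟩ c ⟨hc, h1, h2⟩
    refine ⟨hc, ?_, h1⟩
    rintro rfl
    exact hae h2.symm
  have hMc : ∀ e ∈ E, (M e).ncard = (M b).ncard := by
    rintro e ⟨he, hae⟩
    obtain ⟨g, hg1, hg2⟩ := C.transN a ha b hb a ha e he hab hae
    have h1 : M e = (fun x => g * x * g⁻¹) '' M b := by
      ext c
      constructor
      · rintro ⟨hc, h1, h2⟩
        refine ⟨g⁻¹ * c * g, ⟨?_, ?_, ?_⟩, by group⟩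
        · have := C.conj c hc g⁻¹
          rwa [inv_inv] at this
        · have : a = g⁻¹ * a * g := by
            calc a = g⁻¹ * (g * a * g⁻¹) * g := by group
              _ = g⁻¹ * a * g := by rw [hg1]
          calc a * (g⁻¹ * c * g) = (g⁻¹ * a * g) * (g⁻¹ * c * g) := by rw [← this]
            _ = g⁻¹ * (a * c) * g := by group
            _ = g⁻¹ * (c * a) * g := by rw [h1]
            _ = (g⁻¹ * c * g) * (g⁻¹ * a * g) := by group
            _ = (g⁻¹ * c * g) * a := by rw [← this]
        · have : b = g⁻¹ * e * g := by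
            calc b = g⁻¹ * (g * b * g⁻¹) * g := by group
              _ = g⁻¹ * e * g := by rw [hg2]
          calc b * (g⁻¹ * c * g) = (g⁻¹ * e * g) * (g⁻¹ * c * g) := by rw [← this]
            _ = g⁻¹ * (e * c) * g := by group
            _ = g⁻¹ * (c * e) * g := by rw [h2]
            _ = (g⁻¹ * c * g) * (g⁻¹ * e * g) := by group
            _ = (g⁻¹ * c * g) * b := by rw [← this]
      · rintro ⟨c, ⟨hc, h1, h2⟩, rfl⟩
        refine ⟨C.conj c hc g, ?_, ?_⟩
        · show a * (g * c * g⁻¹) = g * c * g⁻¹ * a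
          calc a * (g * c * g⁻¹) = (g * a * g⁻¹) * (g * c * g⁻¹) := by rw [hg1]
            _ = g * (a * c) * g⁻¹ := by group
            _ = g * (c * a) * g⁻¹ := by rw [h1]
            _ = g * c * g⁻¹ * (g * a * g⁻¹) := by group
            _ = g * c * g⁻¹ * a := by rw [hg1]
        · show e * (g * c * g⁻¹) = g * c * g⁻¹ * e
          calc e * (g * c * g⁻¹) = (g * b * g⁻¹) * (g * c * g⁻¹) := by rw [hg2]
            _ = g * (b * c) * g⁻¹ := by group
            _ = g * (c * b) * g⁻¹ := by rw [h2]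
            _ = g * c * g⁻¹ * (g * b * g⁻¹) := by group
            _ = g * c * g⁻¹ * e := by rw [hg2]
    rw [h1]
    exact Set.ncard_image_of_injective _ (fun x y h => by
      have h : g * x * g⁻¹ = g * y * g⁻¹ := h
      exact mul_left_cancel (mul_right_cancel h))
  -- double counting
  have key : E.ncard * (M b).ncard ≤ N.ncard * 692 := by
    have hEf : E.Finite := Set.toFinite _
    have hNf : N.Finite := Set.toFinite _
    set r : K → K → Prop := fun e c => e * c = c * e with hr
    have h1 : ∀ e ∈ hEf.toFinset, (M b).ncard ≤ (Finset.bipartiteAbove r hNf.toFinset e).card := by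
      intro e he
      rw [Set.Finite.mem_toFinset] at he
      rw [← hMc e he, ← Set.ncard_coe_finset]
      refine Set.ncard_le_ncard ?_ (Set.toFinite _)
      intro c hc
      rw [Finset.mem_coe, Finset.mem_bipartiteAbove, Set.Finite.mem_toFinset]
      exact ⟨hMN e he hc, hc.2.2⟩
    have h2 : ∀ c ∈ hNf.toFinset, (Finset.bipartiteBelow r hEf.toFinset c).card ≤ 692 := by
      intro c hc
      rw [Set.Finite.mem_toFinset] at hc
      have h3 : ((Finset.bipartiteBelow r hEf.toFinset c : Finset K) : Set K) ⊆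
          {x | x ∈ T ∧ x ≠ c ∧ c * x = x * c} \ {a} := by
        intro e he
        rw [Finset.mem_coe, Finset.mem_bipartiteBelow, Set.Finite.mem_toFinset] at he
        obtain ⟨⟨he1, he2⟩, he3⟩ := he
        refine ⟨⟨he1, ?_, he3.symm⟩, ?_⟩
        · rintro rfl
          exact he2 hc.2.2
        · intro h
          rw [Set.mem_singleton_iff] at h
          exact he2 (by rw [h])
      rw [← Set.ncard_coe_finset]
      refine (Set.ncard_le_ncard h3 (Set.toFinite _)).trans ?_
      have h4 : a ∈ {x | x ∈ T ∧ x ≠ c ∧ c * x = x * c} := ⟨ha, fun h => hc.2.1 h.symm, hc.2.2.symm⟩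
      have h5 := Set.ncard_sdiff_singleton_add_one h4 (Set.toFinite _)
      rw [C.link c hc.1] at h5
      omega
    have h3 := Finset.card_mul_le_card_mul r h1 h2
    rwa [← Set.ncard_eq_toFinset_card, ← Set.ncard_eq_toFinset_card] at h3
  rw [hEc, hNc] at key
  have : M b = {c | c ∈ T ∧ a * c = c * a ∧ b * c = c * b} := rfl
  rw [← this]
  omega

theorem no_three (C : Ctx K T) {d : K} (hd : d ∈ T) (Q : Subgroup K) (hQ : Nat.card Q = 3 ^ 5)
    (hinv : ∀ q ∈ Q, d * q * d⁻¹ = q⁻¹) : False := by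
  classical
  have := C.finite
  set N : Set K := {c | c ∈ T ∧ c ≠ d ∧ d * c = c * d} with hN
  have hNc : N.ncard = 693 := C.link d hd
  let O : K → Set K := fun c => {x | ∃ q ∈ Q, x = q * c * q⁻¹}
  let s : K → ℕ := fun c => Nat.card ↥(Q ⊓ centralizer ({c} : Set K))
  have hos : ∀ c, (O c).ncard * s c = 3 ^ 5 := fun c => by rw [← hQ]; exact orbit_card Q c (fun x => Iff.rfl)
  have hpow : ∀ q ∈ Q, q ^ 243 = 1 := by
    intro q hq
    have h1 := pow_card_eq_one' (x := (⟨q, hq⟩ : Q))
    rw [hQ] at h1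
    exact congrArg Subtype.val h1
  have hsq : ∀ q ∈ Q, ∀ c : K, q ^ 2 * c = c * q ^ 2 → q * c = c * q := by
    intro q hq c h
    have h2 : q = (q ^ 2) ^ 122 := by
      rw [← pow_mul]
      calc q = q ^ 243 * q := by rw [hpow q hq, one_mul]
        _ = q ^ (2 * 122) := by rw [← pow_succ]
    have h3 : Commute (q ^ 2) c := h
    have h4 := h3.pow_left 122
    rw [← h2] at h4
    exact h4
  have huniq : ∀ c c' : K, d * c = c * d → d * c' = c' * d → ∀ q ∈ Q, c' = q * c * q⁻¹ → c' = c := by
    intro c c' h1 h2 q hq h3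
    have h4 : d * c' * d⁻¹ = c' := by rw [h2]; group
    have h5 : d * q * d⁻¹ = q⁻¹ := hinv q hq
    have h6 : d * c * d⁻¹ = c := by rw [h1]; group
    have h7 : c' = q⁻¹ * c * q := by
      calc c' = d * c' * d⁻¹ := h4.symm
        _ = (d * q * d⁻¹) * (d * c * d⁻¹) * (d * q * d⁻¹)⁻¹ := by rw [h3]; group
        _ = q⁻¹ * c * q := by rw [h5, h6, inv_inv]
    have h8 : q ^ 2 * c = c * q ^ 2 := by
      have h9 : q * c * q⁻¹ = q⁻¹ * c * q := by rw [← h3, ← h7]
      calc q ^ 2 * c = q * (q * c * q⁻¹) * q := by rw [pow_two]; group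
        _ = q * (q⁻¹ * c * q) * q := by rw [h9]
        _ = c * q ^ 2 := by rw [pow_two]; group
    have h9 := hsq q hq c h8
    rw [h3, h9]
    group
  have hone : ∀ q ∈ Q, q ^ 2 = 1 → q = 1 := by
    intro q hq h
    calc q = q ^ 243 * q := by rw [hpow q hq, one_mul]
      _ = (q ^ 2) ^ 122 := by rw [← pow_succ, ← pow_mul]
      _ = 1 := by rw [h, one_pow]
  have hsd : s d = 1 := by
    have h1 : Q ⊓ centralizer ({d} : Set K) = ⊥ := by
      rw [eq_bot_iff]
      rintro u ⟨hu, hud⟩
      rw [mem_bot]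
      apply hone u hu
      have h2 : u * d = d * u := mem_centralizer_singleton_iff.1 hud
      have h3 := hinv u hu
      have h4 : d * u * d⁻¹ = u := by rw [← h2]; group
      rw [h4] at h3
      rw [pow_two]
      exact mul_eq_one_iff_eq_inv.2 h3
    show Nat.card ↥(Q ⊓ centralizer ({d} : Set K)) = 1
    rw [h1, card_bot]
  have hOd : (O d).ncard = 243 := by
    have := hos d
    rw [hsd] at this
    simpa using this
  have hOT : ∀ c ∈ T, O c ⊆ T := by
    rintro c hc _ ⟨q, hq, rfl⟩
    exact C.conj c hc q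
  -- the orbits are disjoint
  have hTf : T.Finite := Set.toFinite _
  have hNf : N.Finite := Set.toFinite _
  have hOf : ∀ c, (O c).Finite := fun c => Set.toFinite _
  have hdN : d ∉ hNf.toFinset := by
    rw [Set.Finite.mem_toFinset]
    exact fun h => h.2.1 rfl
  have hcomm : ∀ c ∈ insert d hNf.toFinset, c ∈ T ∧ d * c = c * d := by
    intro c hc
    rw [Finset.mem_insert, Set.Finite.mem_toFinset] at hc
    rcases hc with rfl | hc
    · exact ⟨hd, rfl⟩
    · exact ⟨hc.1, hc.2.2⟩
  have hsum : ∑ c ∈ insert d hNf.toFinset, (O c).ncard ≤ 3510 := by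
    have h1 : ∑ c ∈ insert d hNf.toFinset, (O c).ncard = ∑ c ∈ insert d hNf.toFinset, (hOf c).toFinset.card :=
      Finset.sum_congr rfl fun c _ => Set.ncard_eq_toFinset_card _ _
    rw [h1, ← Finset.card_biUnion, ← C.ncard, Set.ncard_eq_toFinset_card _ hTf]
    · refine Finset.card_le_card ?_
      intro x hx
      rw [Finset.mem_biUnion] at hx
      obtain ⟨c, hc, hx⟩ := hx
      rw [Set.Finite.mem_toFinset] at hx ⊢
      exact hOT c (hcomm c hc).1 hx
    · intro c hc c' hc' hne
      rw [Function.onFun, Finset.disjoint_left]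
      intro x hx hx'
      rw [Set.Finite.mem_toFinset] at hx hx'
      obtain ⟨q, hq, rfl⟩ := hx
      obtain ⟨q', hq', h⟩ := hx'
      apply hne
      refine (huniq c c' (hcomm c hc).2 (hcomm c' hc').2 (q'⁻¹ * q) (Q.mul_mem (Q.inv_mem hq') hq) ?_).symm
      calc c' = q'⁻¹ * (q' * c' * q'⁻¹) * q' := by group
        _ = q'⁻¹ * (q * c * q⁻¹) * q' := by rw [← h]
        _ = q'⁻¹ * q * c * (q'⁻¹ * q)⁻¹ := by group
  rw [Finset.sum_insert hdN, hOd] at hsum
  -- the stabilisers
  have hQf : (Q : Set K).Finite := Set.toFinite _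
  have hQc : hQf.toFinset.card = 243 := by
    rw [← Set.ncard_eq_toFinset_card, ← Nat.card_coe_set_eq]
    exact hQ
  set r : K → K → Prop := fun q c => q * c = c * q with hr
  have hdc := Finset.sum_card_bipartiteAbove_eq_sum_card_bipartiteBelow (s := hQf.toFinset) (t := hNf.toFinset) r
  have hbel : ∀ c, (Finset.bipartiteBelow r hQf.toFinset c).card = s c := by
    intro c
    rw [← Set.ncard_coe_finset]
    show _ = Nat.card ↥(Q ⊓ centralizer ({c} : Set K))
    rw [← SetLike.coe_sort_coe, Nat.card_coe_set_eq]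
    congr 1
    ext q
    rw [Finset.mem_coe, Finset.mem_bipartiteBelow, Set.Finite.mem_toFinset, SetLike.mem_coe, SetLike.mem_coe,
      mem_inf, mem_centralizer_singleton_iff]
  have habo : ∀ q ∈ hQf.toFinset, (Finset.bipartiteAbove r hNf.toFinset q).card ≤ if q = 1 then 693 else 170 := by
    intro q hq
    rw [Set.Finite.mem_toFinset] at hq
    have hqQ : q ∈ Q := hq
    split_ifs with h
    · refine (Finset.card_le_card (Finset.filter_subset _ _)).trans ?_
      rw [← Set.ncard_eq_toFinset_card, hNc]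
    · have hq1 : q * d * q⁻¹ ∈ T := C.conj d hd q
      have hne : d * (q * d * q⁻¹) ≠ (q * d * q⁻¹) * d := by
        intro h1
        have hdd : d * d = 1 := C.sq d hd
        have hdi : d⁻¹ = d := inv_eq_of_mul_eq_one_left hdd
        have h2 : d * q * d = q⁻¹ := by
          have := hinv q hqQ
          rwa [hdi] at this
        have h3 : d * (q * d * q⁻¹) = q⁻¹ * q⁻¹ := by
          calc d * (q * d * q⁻¹) = (d * q * d) * q⁻¹ := by group
            _ = q⁻¹ * q⁻¹ := by rw [h2]
        have h4 : (q * d * q⁻¹) * d = q * q := by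
          have h5 : d * q⁻¹ * d = q := by
            have := hinv q⁻¹ (Q.inv_mem hqQ)
            rwa [hdi, inv_inv] at this
          calc (q * d * q⁻¹) * d = q * (d * q⁻¹ * d) := by group
            _ = q * q := by rw [h5]
        rw [h3, h4] at h1
        apply h
        apply hone q hqQ
        apply hone (q ^ 2) (Q.pow_mem hqQ 2)
        calc (q ^ 2) ^ 2 = (q * q) * (q * q) := by rw [pow_two, pow_two]
          _ = (q * q) * (q⁻¹ * q⁻¹) := by rw [h1]
          _ = 1 := by group
      refine le_trans ?_ (mu_le C hd hq1 hne)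
      rw [← Set.ncard_coe_finset]
      refine Set.ncard_le_ncard ?_ (Set.toFinite _)
      intro c hc
      rw [Finset.mem_coe, Finset.mem_bipartiteAbove, Set.Finite.mem_toFinset] at hc
      obtain ⟨⟨hc1, -, hc2⟩, hc3⟩ := hc
      refine ⟨hc1, hc2, ?_⟩
      have hc3 : q * c = c * q := hc3
      calc q * d * q⁻¹ * c = q * d * (q⁻¹ * (c * q) * q⁻¹) := by group
        _ = q * d * (q⁻¹ * (q * c) * q⁻¹) := by rw [hc3]
        _ = q * (d * c) * q⁻¹ := by group
        _ = q * (c * d) * q⁻¹ := by rw [hc2]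
        _ = (q * c) * d * q⁻¹ := by group
        _ = (c * q) * d * q⁻¹ := by rw [hc3]
        _ = c * (q * d * q⁻¹) := by group
  have h1Q : (1 : K) ∈ hQf.toFinset := by
    rw [Set.Finite.mem_toFinset]
    exact Q.one_mem
  have hle : ∑ c ∈ hNf.toFinset, s c ≤ 693 + 242 * 170 := by
    have h1 : ∑ c ∈ hNf.toFinset, s c = ∑ c ∈ hNf.toFinset, (Finset.bipartiteBelow r hQf.toFinset c).card :=
      Finset.sum_congr rfl fun c _ => (hbel c).symm
    rw [h1, ← hdc]
    refine (Finset.sum_le_sum habo).trans ?_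
    rw [← Finset.add_sum_erase _ _ h1Q, if_pos rfl]
    have h2 : ∑ q ∈ hQf.toFinset.erase 1, (if q = 1 then 693 else 170) = ∑ q ∈ hQf.toFinset.erase 1, 170 :=
      Finset.sum_congr rfl fun q hq => if_neg (Finset.ne_of_mem_erase hq)
    rw [h2, Finset.sum_const, Finset.card_erase_of_mem h1Q, hQc]
    norm_num
  have hge : ∀ c ∈ hNf.toFinset, 108 ≤ 9 * (O c).ncard + s c := by
    intro c _
    have h1 := hos c
    have h2 : (O c).ncard ∣ 3 ^ 5 := Dvd.intro _ h1
    obtain ⟨k, hk, hk'⟩ := (Nat.dvd_prime_pow Nat.prime_three).1 h2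
    rw [hk'] at h1 ⊢
    interval_cases k <;> omega
  have h3 := Finset.sum_le_sum hge
  rw [Finset.sum_const, Finset.sum_add_distrib, ← Finset.mul_sum, ← Set.ncard_eq_toFinset_card, hNc] at h3
  rw [smul_eq_mul] at h3
  omega

end Count

end Cfsg.Agent.H99.AS.Fi
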