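import Cfsg.Agent.H518.SUPlus
import Cfsg.Agent.H225.AxB
import Cfsg.Agent.H99.AS.Base

/-!
# S3943: elements of composite order (helper99), general lemmas

* `Elc p s y` : every element of order `p` of a solvable subgroup containing `s` lies in `⟨y⟩`; `Elc.map` (quotients);
* `cent_of_order` : `y` of order `p` centralises the `t`-group `T` if `p` does not divide the `t ^ j - 1`;
* `cent_two` : the `A × B` lemma for an involution `z` commuting with `y`, with `y` trivial on `[V, z]`.
-/

set_option autoImplicit false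
set_option linter.unusedSectionVars false

namespace Cfsg.Agent.H99.AS

open Module Subgroup Cfsg.Agent.H518.DghpFix Cfsg.Agent.H518.SU

universe u v w

/-- every element of order `p` of a solvable subgroup containing `s` lies in `⟨y⟩` -/
def Elc {K : Type*} [Group K] (p : ℕ) (s y : K) : Prop :=
  ∀ M : Subgroup K, Group.IsSolvable M → s ∈ M → ∀ u ∈ M, orderOf u = p → u ∈ Subgroup.zpowers y

theorem Elc.map {G : Type u} {K : Type v} [Group G] [Group K] {p : ℕ} (hp : p.Prime) {s y : G} (h : Elc p s y)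
    (π : G →* K) (hπ : Function.Surjective π) (hsol : Group.IsSolvable π.ker) (hker : ¬ p ∣ Nat.card π.ker) :
    Elc p (π s) (π y) := by
  intro M hM hyM u huM hu
  obtain ⟨g, rfl⟩ := hπ u
  set n := Nat.card π.ker with hn
  have h1 : g ^ p ∈ π.ker := by
    rw [MonoidHom.mem_ker, map_pow, ← hu, pow_orderOf_eq_one]
  have h2 : (g ^ n) ^ p = 1 := by
    rw [← pow_mul, mul_comm, pow_mul]
    have : (⟨g ^ p, h1⟩ : π.ker) ^ n = 1 := pow_card_eq_one'
    exact congrArg Subtype.val this
  have hcop : Nat.Coprime p n := (Nat.Prime.coprime_iff_not_dvd hp).2 hker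
  have h3 : orderOf (π g ^ n) = p := by
    rw [Nat.Coprime.orderOf_pow (by rw [hu]; exact hcop), hu]
  have h4 : g ^ n ≠ 1 := by
    intro h
    rw [← map_pow, h, map_one, orderOf_one] at h3
    exact hp.one_lt.ne h3
  have : Fact p.Prime := ⟨hp⟩
  have h5 : orderOf (g ^ n) = p := orderOf_eq_prime h2 h4
  have hsolM : Group.IsSolvable (M.comap π) := by
    let f : M.comap π →* M := (π.comp (M.comap π).subtype).codRestrict M (fun x => x.2)
    have hf : f.ker ≤ ((π.ker).subgroupOf (M.comap π)) := by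
      intro x hx
      rw [MonoidHom.mem_ker] at hx
      rw [Subgroup.mem_subgroupOf, MonoidHom.mem_ker]
      exact congrArg Subtype.val hx
    have hk : Group.IsSolvable f.ker := by
      exact Group.isSolvable_of_isSolvable_injective (f := (
        { toFun := fun x => ⟨x.1.1, by
            have := hf x.2
            rwa [Subgroup.mem_subgroupOf] at this⟩
          map_one' := rfl
          map_mul' := fun _ _ => rfl } : f.ker →* π.ker)) (fun a b hab => by
            apply Subtype.ext
            apply Subtype.ext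
            exact congrArg (Subtype.val : π.ker → G) hab)
    exact Group.isSolvable_of_ker_le_range (f.ker.subtype) f (by rw [Subgroup.range_subtype])
  have h6 := h (M.comap π) hsolM hyM (g ^ n) (by
    show π (g ^ n) ∈ M
    rw [map_pow]
    exact M.pow_mem huM n) h5
  obtain ⟨k, hk⟩ := Subgroup.mem_zpowers_iff.1 h6
  have h7 : π g ^ n ∈ Subgroup.zpowers (π y) := by
    refine Subgroup.mem_zpowers_iff.2 ⟨k, ?_⟩
    rw [← map_zpow, hk, map_pow]
  have hgf : π g ∈ Subgroup.zpowers (π g ^ n) := by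
    rw [mem_zpowers_pow_iff, hu]
    exact hcop.symm
  exact (Subgroup.zpowers_le.2 h7) hgf

/-- from `Elc` to `Uel` -/
theorem Elc.uel {K : Type u} [Group K] {p : ℕ} (hp : p.Prime) {s y : K} (hy : orderOf y = p) (h : Elc p s y) :
    Uel p s := by
  intro M hM hs
  have hpf : Fact p.Prime := ⟨hp⟩
  have hyf : Finite (zpowers y) := Nat.finite_of_card_ne_zero (by rw [Nat.card_zpowers, hy]; exact hp.ne_zero)
  have hA : ∀ A : Subgroup K, A ≤ M → Nat.card A = p → A = zpowers y := by
    intro A hA hAc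
    have hle : A ≤ zpowers y := by
      intro a ha
      by_cases ha1 : a = 1
      · rw [ha1]; exact one_mem _
      have hAf : Finite A := Nat.finite_of_card_ne_zero (by rw [hAc]; exact hp.ne_zero)
      have h1 : orderOf a = p := by
        have h2 : orderOf a ∣ p := by
          rw [← hAc, ← Subgroup.orderOf_mk a ha]; exact orderOf_dvd_natCard _
        rcases (Nat.dvd_prime hp).1 h2 with h | h
        · exact absurd (orderOf_eq_one_iff.1 h) ha1
        · exact h
      exact h M hM hs a (hA ha) h1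
    exact Subgroup.eq_of_le_of_card_ge hle (by rw [Nat.card_zpowers, hy, hAc])
  intro A B hAM hBM hAc hBc
  rw [hA A hAM hAc, hA B hBM hBc]

theorem fix_modEq' {K : Type v} [Group K] [Finite K] {r : ℕ} (hr : r.Prime) {y : K} (hy : y ^ r = 1) {S : Set K}
    (hS : ∀ s ∈ S, y * s * y⁻¹ ∈ S) : S.ncard ≡ {s | s ∈ S ∧ y * s = s * y}.ncard [MOD r] := by
  classical
  have := Fact.mk hr
  have : Fintype ↥S := Fintype.ofFinite _
  let f : Function.End ↥S := fun s => ⟨y * s * y⁻¹, hS s s.2⟩
  have hfn : ∀ (n : ℕ) (s : ↥S), ((f ^ n) s : K) = y ^ n * s * (y ^ n)⁻¹ := by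
    intro n
    induction n with
    | zero =>
      intro s
      rw [pow_zero, pow_zero, one_mul, inv_one, mul_one]
      rfl
    | succ n ih =>
      intro s
      rw [pow_succ' f]
      change y * ((f ^ n) s : K) * y⁻¹ = _
      rw [ih, pow_succ' y]
      group
  have hf : f ^ r ^ 1 = 1 := by
    funext s
    apply Subtype.ext
    rw [hfn, pow_one, hy]
    change 1 * (s : K) * 1⁻¹ = s
    group
  have h := Equiv.Perm.card_fixedPoints_modEq hf
  have h1 : Fintype.card ↥S = S.ncard := by
    rw [← Nat.card_eq_fintype_card]; rfl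
  have h2 : Fintype.card ↥(Function.fixedPoints f) = {s | s ∈ S ∧ y * s = s * y}.ncard := by
    rw [← Nat.card_eq_fintype_card]
    have h3 : {s | s ∈ S ∧ y * s = s * y} = Subtype.val '' (Function.fixedPoints f) := by
      ext x
      constructor
      · rintro ⟨hx, hyx⟩
        refine ⟨⟨x, hx⟩, Subtype.ext ?_, rfl⟩
        change y * x * y⁻¹ = x
        rw [hyx, mul_inv_cancel_right]
      · rintro ⟨⟨z, hz⟩, hfz, rfl⟩
        have h4 : y * z * y⁻¹ = z := congrArg Subtype.val hfz
        exact ⟨hz, mul_inv_eq_iff_eq_mul.1 h4⟩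
    rw [h3, Set.ncard_image_of_injective _ Subtype.val_injective]
    rfl
  rw [h1, h2] at h
  exact h

/-- `y` of prime order `p` centralises a `t`-group of order `t ^ k` which it normalises if `p ∤ t ^ j - 1` for `j ≤ k`. -/
theorem cent_of_order {G : Type u} [Group G] [Finite G] {p : ℕ} (hp : p.Prime) {y : G} (hy : orderOf y = p)
    {t k : ℕ} (ht : t.Prime) (htp : t ≠ p) {T : Subgroup G} (hT : Nat.card T = t ^ k)
    (hyT : ∀ u ∈ T, y * u * y⁻¹ ∈ T) (h : ∀ j, 1 ≤ j → j ≤ k → ¬ p ∣ t ^ j - 1) : ∀ u ∈ T, y * u = u * y := by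
  have h1 := fix_modEq' hp (y := y) (by rw [← hy, pow_orderOf_eq_one]) (S := (T : Set G)) hyT
  have h2 : {s | s ∈ (T : Set G) ∧ y * s = s * y} = ((T ⊓ centralizer ({y} : Set G) : Subgroup G) : Set G) := by
    ext s
    rw [SetLike.mem_coe, mem_inf, mem_centralizer_singleton_iff]
    exact ⟨fun h => ⟨h.1, h.2.symm⟩, fun h => ⟨h.1, h.2.symm⟩⟩
  have h3 : Nat.card ↥(T ⊓ centralizer ({y} : Set G)) ∣ t ^ k := hT ▸ Subgroup.card_dvd_of_le inf_le_left
  obtain ⟨c, hc, hc'⟩ := (Nat.dvd_prime_pow ht).1 h3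
  rw [h2] at h1
  have h4 : ((T : Set G)).ncard = t ^ k := by rw [← hT]; rfl
  have h5 : (((T ⊓ centralizer ({y} : Set G) : Subgroup G) : Set G)).ncard = t ^ c := by rw [← hc']; rfl
  rw [h4, h5] at h1
  have hck : c = k := by
    by_contra hne
    have hlt : c < k := lt_of_le_of_ne hc hne
    have h6 : p ∣ t ^ k - t ^ c := (Nat.modEq_iff_dvd' (Nat.pow_le_pow_right ht.pos hc)).1 h1.symm
    have h7 : t ^ k - t ^ c = t ^ c * (t ^ (k - c) - 1) := by
      rw [Nat.mul_sub, mul_one, ← pow_add, Nat.add_sub_cancel' hc]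
    rw [h7] at h6
    rcases (Nat.Prime.dvd_mul hp).1 h6 with h8 | h8
    · exact htp ((Nat.prime_dvd_prime_iff_eq hp ht).1 (hp.dvd_of_dvd_pow h8)).symm
    · exact h (k - c) (by omega) (by omega) h8
  have h6 : T ⊓ centralizer ({y} : Set G) = T :=
    Subgroup.eq_of_le_of_card_ge inf_le_left (by rw [hT, hc', hck])
  intro u hu
  rw [← h6] at hu
  exact (mem_centralizer_singleton_iff.1 hu.2).symm

/-- the restriction of a representation to an invariant subspace -/
noncomputable def resHom {F : Type u} [Field F] {V : Type v} [AddCommGroup V] [Module F V] {H : Type w} [Group H]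
    (ρ : H →* (V →ₗ[F] V)) (W : Submodule F V) (hW : ∀ h, ∀ v ∈ W, ρ h v ∈ W) : H →* (W →ₗ[F] W) where
  toFun h := (ρ h).restrict (hW h)
  map_one' := by
    ext v
    simp
  map_mul' a b := by
    ext v
    simp

theorem resHom_apply {F : Type u} [Field F] {V : Type v} [AddCommGroup V] [Module F V] {H : Type w} [Group H]
    (ρ : H →* (V →ₗ[F] V)) (W : Submodule F V) (hW : ∀ h, ∀ v ∈ W, ρ h v ∈ W) (h : H) (v : W) :
    ((resHom ρ W hW h v : W) : V) = ρ h v := rfl

/-- `centralize_rep` for a representation with a kernel, `y` of prime order. -/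
theorem centralize_rep' {F : Type u} [Field F] {V : Type v} [AddCommGroup V] [Module F V] [FiniteDimensional F V]
    {H : Type w} [Group H] [Finite H] (ρ : H →* (V →ₗ[F] V)) {p t : ℕ} (hp : p.Prime) (hp2 : p ≠ 2)
    (ht : t.Prime) (htp : t ≠ p) (htF : (t : F) ≠ 0) {y : H} (hy : y ^ p = 1) {T : Subgroup H} (hT : IsPGroup t T)
    (hyT : ∀ u ∈ T, y * u * y⁻¹ ∈ T)
    (hn : finrank F V + 1 < p ∨ (finrank F V + 1 = p ∧ ¬ (t = 2 ∧ ∃ k, finrank F V = 2 ^ k))) :
    ∀ u ∈ T, ρ (y * u) = ρ (u * y) := by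
  set f := ρ.toHomUnits with hf
  have hfv : ∀ h, ((f h : (V →ₗ[F] V)ˣ) : V →ₗ[F] V) = ρ h := fun h => rfl
  have hfin : Finite f.range := Finite.of_surjective f.rangeRestrict f.rangeRestrict_surjective
  set φ : f.range →* (V →ₗ[F] V) := (Units.coeHom _).comp f.range.subtype with hφ
  have hφi : Function.Injective φ := Units.val_injective.comp f.range.subtype_injective
  set y' : f.range := ⟨f y, y, rfl⟩ with hy'
  have hyp : y' ^ p = 1 := Subtype.ext (by
    show (f y) ^ p = 1
    rw [← map_pow, hy, map_one])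
  intro u hu
  rcases (Nat.dvd_prime hp).1 (orderOf_dvd_of_pow_eq_one hyp) with h | h
  · have h1 : f y = 1 := congrArg Subtype.val (orderOf_eq_one_iff.1 h)
    have h2 : ρ y = 1 := by rw [← hfv, h1]; rfl
    rw [map_mul, map_mul, h2, one_mul, mul_one]
  · have h3 := centralize_rep (a := 1) φ hφi hp hp2 le_rfl ht htp htF (y := y') (by rw [h, pow_one])
      (T := T.map f.rangeRestrict) (hT.map _) ?_ (by simpa using hn) (f.rangeRestrict u) ⟨u, hu, rfl⟩
    · rw [Nat.sub_self, pow_zero, pow_one] at h3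
      have h4 : f y * f u = f u * f y := congrArg Subtype.val h3
      rw [← hfv, ← hfv, map_mul, map_mul, h4]
    · rintro _ ⟨x, hx, rfl⟩
      exact ⟨y * x * y⁻¹, hyT x hx, Subtype.ext (by
        show f (y * x * y⁻¹) = f y * f x * (f y)⁻¹
        rw [map_mul, map_mul, map_inv])⟩

/-- **The `A × B` lemma for an involution `z`** commuting with `y` (of prime order `p`) which is trivial on the
`-1`-eigenspace of `z`. -/
theorem cent_two {F : Type u} [Field F] {V : Type v} [AddCommGroup V] [Module F V] [FiniteDimensional F V]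
    {G : Type w} [Group G] [Finite G] (φ : G →* (V →ₗ[F] V)) (hφ : Function.Injective φ) {p : ℕ} (hp : p.Prime)
    (hp2 : p ≠ 2) (h2F : (2 : F) ≠ 0) {y z : G} (hy : orderOf y = p) (hz : z * z = 1) (hyz : y * z = z * y)
    (hV2 : ∀ v, φ z v = -v → φ y v = v)
    (hn : finrank F (fixS (φ z)) + 1 < p ∨
      (finrank F (fixS (φ z)) + 1 = p ∧ ¬ (∃ k, finrank F (fixS (φ z)) = 2 ^ k)))
    {T : Subgroup G} (hT : IsPGroup 2 T) (hyT : ∀ u ∈ T, y * u * y⁻¹ ∈ T) (hzT : ∀ u ∈ T, z * u * z⁻¹ ∈ T) :
    ∀ u ∈ T, y * u = u * y := by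
  have : Fact (Nat.Prime 2) := ⟨Nat.prime_two⟩
  have hyp : y ^ p = 1 := by rw [← hy, pow_orderOf_eq_one]
  -- the centraliser of `z` in `T`
  have hR : ∀ u ∈ T, u * z = z * u → y * u = u * y := by
    intro u hu huz
    set H : Subgroup G := centralizer ({z} : Set G) with hH
    have hW : ∀ h : H, ∀ v ∈ fixS (φ z), (φ.comp H.subtype) h v ∈ fixS (φ z) := by
      intro h v hv
      have h1 : (h : G) * z = z * h := mem_centralizer_singleton_iff.1 h.2
      show φ z (φ (h : G) v) = φ (h : G) v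
      rw [← Module.End.mul_apply, ← map_mul, ← h1, map_mul, Module.End.mul_apply]
      exact congrArg _ hv
    have hyH : y ∈ H := mem_centralizer_singleton_iff.2 hyz
    have huH : u ∈ H := mem_centralizer_singleton_iff.2 huz
    have h1 := centralize_rep' (resHom (φ.comp H.subtype) (fixS (φ z)) hW) hp hp2 Nat.prime_two (Ne.symm hp2)
      (by exact_mod_cast h2F) (y := ⟨y, hyH⟩) (Subtype.ext hyp) (T := T.subgroupOf H)
      (hT.comap_of_injective _ H.subtype_injective) ?_ ?_ ⟨u, huH⟩ (mem_subgroupOf.2 hu)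
    · apply hφ
      ext v
      -- decompose `v`
      have h3 : φ z (φ z v) = v := by
        rw [← Module.End.mul_apply, ← map_mul, hz, map_one]; rfl
      set a := v + φ z v with ha
      set b := v - φ z v with hb
      have haz : a ∈ fixS (φ z) := by
        show φ z a = a
        rw [ha, map_add, h3, add_comm]
      have hbz : φ z b = -b := by
        rw [hb, map_sub, h3, neg_sub]
      have hab : (2 : F) • v = a + b := by
        rw [ha, hb, two_smul]; abel
      have e1 : φ (y * u) a = φ (u * y) a := by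
        have h4 := LinearMap.congr_fun h1 ⟨a, haz⟩
        exact congrArg Subtype.val h4
      have e2 : φ (y * u) b = φ (u * y) b := by
        rw [map_mul, map_mul, Module.End.mul_apply, Module.End.mul_apply, hV2 b hbz]
        apply hV2
        rw [← Module.End.mul_apply, ← map_mul, ← huz, map_mul, Module.End.mul_apply, hbz, map_neg]
      have e3 : (2 : F) • φ (y * u) v = (2 : F) • φ (u * y) v := by
        rw [← map_smul, ← map_smul, hab, map_add (φ (y * u)) a b, map_add (φ (u * y)) a b, e1, e2]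
      exact smul_right_injective V h2F e3
    · intro x hx
      exact mem_subgroupOf.2 (hyT _ (mem_subgroupOf.1 hx))
    · rcases hn with h | ⟨h, h'⟩
      · exact Or.inl h
      · exact Or.inr ⟨h, fun h'' => h' h''.2⟩
  have h1 : y ∈ centralizer (T : Set G) := by
    refine Cfsg.Agent.H225.AxB.axb (p := 2) (V := T) (D := zpowers z) hT ?_ ?_ ?_ ?_ ?_ ?_
    · rw [zpowers_le]
      exact mem_normalizer_fintype hzT
    · intro x hx
      obtain ⟨i, rfl⟩ := mem_zpowers_iff.1 hx
      refine ⟨1, ?_⟩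
      have : (z ^ i) ^ 2 ^ 1 = 1 := by
        rw [pow_one, ← zpow_natCast, zpow_comm, zpow_natCast, pow_two, hz, one_zpow]
      rw [this]
      exact one_mem _
    · exact mem_normalizer_fintype hyT
    · rw [hy]
      exact (Nat.coprime_primes hp Nat.prime_two).2 hp2
    · intro x hx
      obtain ⟨i, rfl⟩ := mem_zpowers_iff.1 hx
      have h2 : Commute y z := hyz
      have h3 : z ^ i * y * (z ^ i)⁻¹ * y⁻¹ = 1 := by
        rw [← (h2.zpow_right i).eq]; group
      rw [h3]
      exact one_mem _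
    · intro v hv hc
      exact hR v hv (hc z (mem_zpowers z)).symm
  intro u hu
  exact (mem_centralizer_iff.1 h1 u hu).symm

/-- **`Elc` from centralised normal `t`-subgroups.** -/
theorem elc_of {G : Type u} [Group G] [Finite G] {p : ℕ} (hp : p.Prime) (hp2 : p ≠ 2) {y z : G} (hy : orderOf y = p)
    (hzz : z * z = 1) (hyz : y * z = z * y)
    (h1 : ∀ M : Subgroup G, Group.IsSolvable M → y ∈ M → z ∈ M → ∀ t : ℕ, t.Prime → t ≠ p → ∀ T : Subgroup G, T ≤ M →
      (∀ m ∈ M, ∀ x ∈ T, m * x * m⁻¹ ∈ T) → IsPGroup t T → ∀ u ∈ T, y * u = u * y)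
    (h2 : ∀ u v : G, orderOf u = p → orderOf v = p → u * v = v * u → v ∈ Subgroup.zpowers u) : Elc p (y * z) y := by
  have hc : Commute y z := hyz
  have hyp : y ^ p = 1 := by rw [← hy, pow_orderOf_eq_one]
  have hz2 : z ^ 2 = 1 := by rw [pow_two, hzz]
  intro M hM hs
  obtain ⟨n, hn⟩ : ∃ n, p = 2 * n + 1 := hp.odd_of_ne_two hp2
  have hyM : y ∈ M := by
    have h3 := M.pow_mem hs (p + 1)
    rw [hc.mul_pow, hn, show 2 * n + 1 + 1 = 2 * (n + 1) by ring, pow_mul z, hz2, one_pow, mul_one,
      show 2 * (n + 1) = p + 1 by omega, pow_succ, hyp, one_mul] at h3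
    exact h3
  have hzM : z ∈ M := by
    have h3 := M.mul_mem (M.inv_mem hyM) hs
    rwa [inv_mul_cancel_left] at h3
  have hy' : orderOf (⟨y, hyM⟩ : M) = p ^ 1 := by rw [Subgroup.orderOf_mk, hy, pow_one]
  have key : ∀ u : M, orderOf u = p → u ∈ Subgroup.zpowers (⟨y, hyM⟩ : M) := by
    refine solv_unique hp le_rfl hy' ?_ ?_
    · intro t ht htp T hTn hT u hu
      rw [Nat.sub_self, pow_zero, pow_one]
      apply Subtype.ext
      refine h1 M hM hyM hzM t ht htp (T.map M.subtype) (Subgroup.map_subtype_le T) ?_ (hT.map _) (u : G)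
        ⟨u, hu, rfl⟩
      rintro m hm _ ⟨x, hx, rfl⟩
      exact ⟨⟨m, hm⟩ * x * ⟨m, hm⟩⁻¹, hTn.conj_mem x hx _, rfl⟩
    · intro u v hu hv huv
      have h3 := h2 u v (by rw [Subgroup.orderOf_coe, hu]) (by rw [Subgroup.orderOf_coe, hv])
        (congrArg Subtype.val huv)
      obtain ⟨i, hi⟩ := Subgroup.mem_zpowers_iff.1 h3
      exact Subgroup.mem_zpowers_iff.2 ⟨i, Subtype.ext hi⟩
  intro u hu ho
  obtain ⟨i, hi⟩ := Subgroup.mem_zpowers_iff.1 (key ⟨u, hu⟩ (by rw [Subgroup.orderOf_mk, ho]))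
  exact Subgroup.mem_zpowers_iff.2 ⟨i, congrArg Subtype.val hi⟩

/-- the data of a row from `Elc` in a central extension -/
theorem row_of_elc {G : Type u} [Group G] [Finite G] {p : ℕ} (hp : p.Prime) (hp5 : 5 ≤ p) {y z : G}
    (hy : orderOf y = p) (hzz : z * z = 1) (hyz : y * z = z * y) (hel : Elc p (y * z) y)
    (hcz : ¬ p ∣ Nat.card (Subgroup.center G)) :
    orderOf (QuotientGroup.mk' (Subgroup.center G) y) = p ∧
      QuotientGroup.mk' (Subgroup.center G) y ∈ Subgroup.zpowers (QuotientGroup.mk' (Subgroup.center G) (y * z)) ∧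
      Uel p (QuotientGroup.mk' (Subgroup.center G) (y * z)) := by
  set π := QuotientGroup.mk' (Subgroup.center G) with hπ
  have hk : π.ker = Subgroup.center G := QuotientGroup.ker_mk' _
  have hk' : ¬ p ∣ Nat.card π.ker := by rwa [hk]
  have hks : Group.IsSolvable π.ker := by
    rw [hk]
    exact Group.isSolvable_of_comm fun a b => Subtype.ext ((Subgroup.mem_center_iff.1 b.2) a)
  have hel' : Elc p (π (y * z)) (π y) := hel.map hp π (QuotientGroup.mk'_surjective _) hks hk'
  have hoy : orderOf (π y) = p := by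
    have := orderOf_map (a := 1) hp (by rw [hy, pow_one]) π hk'
    rwa [pow_one] at this
  refine ⟨hoy, ?_, hel'.uel hp hoy⟩
  have hc : Commute y z := hyz
  have hyp : y ^ p = 1 := by rw [← hy, pow_orderOf_eq_one]
  have hz2 : z ^ 2 = 1 := by rw [pow_two, hzz]
  obtain ⟨n, hn⟩ : ∃ n, p = 2 * n + 1 := hp.odd_of_ne_two (by omega)
  refine Subgroup.mem_zpowers_iff.2 ⟨((p + 1 : ℕ) : ℤ), ?_⟩
  rw [← map_zpow, zpow_natCast, hc.mul_pow, hn, show 2 * n + 1 + 1 = 2 * (n + 1) by ring, pow_mul z, hz2, one_pow,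
    mul_one, show 2 * (n + 1) = p + 1 by omega, pow_succ, hyp, one_mul]

end Cfsg.Agent.H99.AS
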