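import Mathlib

/-!
# S3943 (helper99): `2`-groups normalised by commuting elements `y` (of order 7) and `z`

`two_group`: if the `2`-elements centralised by `y` lie in a central subgroup `Z₀` of exponent 2 and there is no
elementary abelian `2`-group `T ≠ 1` normalised by `y`, `z` with `C_T(y) = 1`, then each `2`-group normalised by
`y`, `z` is contained in `Z₀`.
-/

set_option autoImplicit false
set_option linter.unusedSectionVars false

namespace Cfsg.Agent.H99.AS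

open Subgroup
open scoped commutatorElement

universe u v

/-- an invariant symmetric bilinear map with `1 + σ + σ ^ 3 = 0` (in the first variable) is trivial -/
theorem bil_one {T : Type u} {C : Type v} [CommGroup C] (hC : ∀ c : C, c * c = 1) (σ : T → T)
    (hσ : ∀ t, σ (σ (σ (σ (σ (σ (σ t)))))) = t) (k : T → T → C) (hs : ∀ t u, k t u = k u t)
    (hk : ∀ t u, k (σ t) (σ u) = k t u)
    (h : (∀ t u, k t u * k (σ t) u * k (σ (σ (σ t))) u = 1) ∨
      (∀ t u, k t u * k (σ (σ t)) u * k (σ (σ (σ t))) u = 1)) : ∀ t u, k t u = 1 := by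
  have key : ∀ t u, k t u = k (σ t) u := by
    rcases h with h | h
    · have h2 : ∀ t u, k t u * k t (σ u) * k t (σ (σ (σ u))) = 1 := fun t u => by
        have := h u t
        rwa [hs u t, hs (σ u) t, hs (σ (σ (σ u))) t] at this
      intro t u
      have : ∀ t, k (σ t) u = k (σ (σ t)) u := by
        intro t
        have h3 := h2 (σ (σ (σ t))) u
        have e2 : k (σ (σ (σ t))) (σ u) = k (σ (σ t)) u := hk _ _
        have e3 : k (σ (σ (σ t))) (σ (σ (σ u))) = k t u := by rw [hk, hk, hk]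
        rw [e2, e3] at h3
        have h4 := h t u
        have h6 : k (σ (σ (σ t))) u * k t u * k (σ t) u = k (σ (σ (σ t))) u * k t u * k (σ (σ t)) u := by
          rw [show k (σ (σ (σ t))) u * k t u * k (σ t) u = k t u * k (σ t) u * k (σ (σ (σ t))) u by
            rw [mul_assoc, mul_comm (k (σ (σ (σ t))) u)], h4, ← h3, mul_right_comm]
        exact mul_left_cancel h6
      have h7 := this (σ (σ (σ (σ (σ (σ t))))))
      rwa [hσ] at h7
    · have h2 : ∀ t u, k t u * k t (σ (σ u)) * k t (σ (σ (σ u))) = 1 := fun t u => by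
        have := h u t
        rwa [hs u t, hs (σ (σ u)) t, hs (σ (σ (σ u))) t] at this
      intro t u
      have : ∀ t, k (σ t) u = k (σ (σ t)) u := by
        intro t
        have h3 := h2 (σ (σ (σ t))) u
        have e2 : k (σ (σ (σ t))) (σ (σ u)) = k (σ t) u := by rw [hk, hk]
        have e3 : k (σ (σ (σ t))) (σ (σ (σ u))) = k t u := by rw [hk, hk, hk]
        rw [e2, e3] at h3
        have h4 := h t u
        have h6 : k (σ (σ (σ t))) u * k t u * k (σ t) u = k (σ (σ (σ t))) u * k t u * k (σ (σ t)) u := by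
          rw [show k (σ (σ (σ t))) u * k t u * k (σ (σ t)) u = k t u * k (σ (σ t)) u * k (σ (σ (σ t))) u by
            rw [mul_assoc, mul_comm (k (σ (σ (σ t))) u)], h4, ← h3, mul_right_comm]
        exact mul_left_cancel h6
      have h7 := this (σ (σ (σ (σ (σ (σ t))))))
      rwa [hσ] at h7
  intro t u
  have e1 : k (σ t) u = k t u := (key t u).symm
  have e2 : k (σ (σ t)) u = k t u := by rw [← key, e1]
  have e3 : k (σ (σ (σ t))) u = k t u := by rw [← key, e2]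
  rcases h with h | h
  · have := h t u
    rwa [e1, e3, hC, one_mul] at this
  · have := h t u
    rwa [e2, e3, hC, one_mul] at this

theorem nine {C : Type v} [CommGroup C] (a0 a1 a2 a3 a4 a5 a6 : C) :
    a0 * a2 * a3 * (a1 * a3 * a4) * (a3 * a5 * a6) = a0 * a1 * a2 * a3 * a4 * a5 * a6 * (a3 * a3) := by
  simp only [mul_comm, mul_left_comm, mul_assoc]

/-- if `y c y⁻¹ ∈ c Z₀` -/
theorem comm_of_conj {G : Type u} [Group G] {y : G} (hy : y ^ 7 = 1) {Z0 : Subgroup G} (hZc : Z0 ≤ center G)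
    (hZ2 : ∀ x ∈ Z0, x * x = 1) {c : G} (hc : c⁻¹ * (y * c * y⁻¹) ∈ Z0) : y * c = c * y := by
  set e := c⁻¹ * (y * c * y⁻¹) with he
  have h1 : y * c * y⁻¹ = c * e := by rw [he, mul_inv_cancel_left]
  have h1' : y * c = c * e * y := by rw [← h1, inv_mul_cancel_right]
  have hec : ∀ g : G, g * e = e * g := fun g => mem_center_iff.1 (hZc hc) g
  have h2 : y * y * c = c * (y * y) := by
    rw [mul_assoc, h1', ← mul_assoc, ← mul_assoc, h1', mul_assoc (c * e) y e, hec y, ← mul_assoc (c * e),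
      mul_assoc c e e, hZ2 e hc, mul_one, mul_assoc]
  have h3 : Commute (y * y) c := h2
  have h4 : Commute ((y * y) ^ 4) c := h3.pow_left 4
  have h5 : (y * y) ^ 4 = y := by
    rw [← pow_two, ← pow_mul, show 2 * 4 = 7 + 1 by norm_num, pow_succ, hy, one_mul]
  rw [h5] at h4
  exact h4

theorem commutator_ne {G : Type u} [Group G] [Finite G] {T : Subgroup G} (hT : IsPGroup 2 T) (hT1 : T ≠ ⊥) :
    ⁅T, T⁆ ≠ T := by
  intro h
  have : Fact (Nat.Prime 2) := ⟨Nat.prime_two⟩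
  have h1 : Group.IsNilpotent T := hT.isNilpotent
  have h2 : Group.IsSolvable T := inferInstance
  have : Nontrivial T := (Subgroup.nontrivial_iff_ne_bot T).2 hT1
  have h3 := Group.IsSolvable.commutator_lt_top_of_nontrivial T
  apply h3.ne
  apply Subgroup.map_injective T.subtype_injective
  rw [Subgroup.map_subtype_commutator, h, ← MonoidHom.range_eq_map, Subgroup.range_subtype]

theorem map_conj_le {G : Type u} [Group G] {T : Subgroup G} {y : G} (hyT : ∀ u ∈ T, y * u * y⁻¹ ∈ T) :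
    ∀ u ∈ ⁅T, T⁆, y * u * y⁻¹ ∈ ⁅T, T⁆ := by
  intro u hu
  have h1 : (⁅T, T⁆).map (MulAut.conj y).toMonoidHom ≤ ⁅T, T⁆ := by
    rw [Subgroup.map_commutator]
    refine Subgroup.commutator_mono ?_ ?_ <;>
    · rintro _ ⟨x, hx, rfl⟩
      exact hyT x hx
  exact h1 ⟨u, hu, rfl⟩

section Main

variable {G : Type u} [Group G] [Finite G] {y z : G} {Z0 : Subgroup G}

/-- the abelian case -/
theorem two_abelian (hy : y ^ 7 = 1) (hyz : y * z = z * y) (hZc : Z0 ≤ center G) (hZ2 : ∀ x ∈ Z0, x * x = 1)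
    (H1 : ∀ u : G, (∃ k, u ^ 2 ^ k = 1) → y * u = u * y → u ∈ Z0)
    (H3 : ∀ T : Subgroup G, (∀ u ∈ T, u * u = 1) → (∀ u ∈ T, y * u * y⁻¹ ∈ T) → (∀ u ∈ T, z * u * z⁻¹ ∈ T) →
      (∀ u ∈ T, y * u = u * y → u = 1) → T = ⊥)
    {T : Subgroup G} (hT : IsPGroup 2 T) (hyT : ∀ u ∈ T, y * u * y⁻¹ ∈ T) (hzT : ∀ u ∈ T, z * u * z⁻¹ ∈ T)
    (IH : ∀ S : Subgroup G, S ≤ T → S ≠ T → (∀ u ∈ S, y * u * y⁻¹ ∈ S) → (∀ u ∈ S, z * u * z⁻¹ ∈ S) → S ≤ Z0)
    (hab : ∀ t ∈ T, ∀ u ∈ T, t * u = u * t) : T ≤ Z0 := by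
  by_contra hne
  have hfac : Fact (Nat.Prime 2) := ⟨Nat.prime_two⟩
  have h2el : ∀ u ∈ T, ∃ k, u ^ 2 ^ k = 1 := by
    intro u hu
    obtain ⟨k, hk⟩ := hT ⟨u, hu⟩
    exact ⟨k, by simpa using congrArg Subtype.val hk⟩
  -- the squares
  let Sq : Subgroup G :=
    { carrier := {x | ∃ t ∈ T, x = t * t}
      one_mem' := ⟨1, one_mem _, by rw [mul_one]⟩
      mul_mem' := by
        rintro _ _ ⟨a, ha, rfl⟩ ⟨b, hb, rfl⟩
        refine ⟨a * b, mul_mem ha hb, ?_⟩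
        rw [mul_assoc a a, ← mul_assoc a b b, hab a ha b hb]
        simp only [mul_assoc]
        rw [← mul_assoc a b, hab a ha b hb, mul_assoc]
      inv_mem' := by
        rintro _ ⟨a, ha, rfl⟩
        exact ⟨a⁻¹, inv_mem ha, mul_inv_rev a a⟩ }
  have hSqT : Sq ≤ T := by
    rintro _ ⟨a, ha, rfl⟩
    exact mul_mem ha ha
  have hinvol : ∃ u ∈ T, u ≠ 1 ∧ u * u = 1 := by
    have h1 : T ≠ ⊥ := by
      intro h
      exact hne (h ▸ bot_le)
    have h2 : Nontrivial T := (Subgroup.nontrivial_iff_ne_bot T).2 h1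
    obtain ⟨k, hk0, hk⟩ := hT.nontrivial_iff_card.1 h2
    have h3 : 2 ∣ Nat.card T := by
      rw [hk]; exact dvd_pow_self 2 hk0.ne'
    obtain ⟨u, hu⟩ := exists_prime_orderOf_dvd_card' 2 h3
    refine ⟨u, u.2, fun h => ?_, ?_⟩
    · have : u = 1 := Subtype.ext h
      rw [this, orderOf_one] at hu
      norm_num at hu
    · have := pow_orderOf_eq_one u
      rw [hu, pow_two] at this
      exact congrArg Subtype.val this
  have hSqne : Sq ≠ T := by
    intro h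
    let f : T → T := fun t => t * t
    have hsurj : Function.Surjective f := by
      rintro ⟨x, hx⟩
      rw [← h] at hx
      obtain ⟨t, ht, rfl⟩ := hx
      exact ⟨⟨t, ht⟩, rfl⟩
    have hinj := Finite.injective_iff_surjective.2 hsurj
    obtain ⟨u, hu, hu1, hu2⟩ := hinvol
    have : f ⟨u, hu⟩ = f 1 := Subtype.ext (by
      show u * u = 1 * 1
      rw [hu2, one_mul])
    exact hu1 (congrArg Subtype.val (hinj this))
  have hSq : Sq ≤ Z0 := by
    refine IH Sq hSqT hSqne ?_ ?_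
    · rintro _ ⟨a, ha, rfl⟩
      exact ⟨y * a * y⁻¹, hyT a ha, by group⟩
    · rintro _ ⟨a, ha, rfl⟩
      exact ⟨z * a * z⁻¹, hzT a ha, by group⟩
  -- the commutators with `y`
  let D : Subgroup G :=
    { carrier := {x | ∃ t ∈ T, x = t⁻¹ * (y * t * y⁻¹)}
      one_mem' := ⟨1, one_mem _, by group⟩
      mul_mem' := by
        rintro _ _ ⟨a, ha, rfl⟩ ⟨b, hb, rfl⟩
        refine ⟨a * b, mul_mem ha hb, ?_⟩
        have e1 := hab b⁻¹ (inv_mem hb) _ (mul_mem (inv_mem ha) (hyT a ha))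
        calc a⁻¹ * (y * a * y⁻¹) * (b⁻¹ * (y * b * y⁻¹)) = (a⁻¹ * (y * a * y⁻¹) * b⁻¹) * (y * b * y⁻¹) := by group
          _ = (b⁻¹ * (a⁻¹ * (y * a * y⁻¹))) * (y * b * y⁻¹) := by rw [e1]
          _ = (a * b)⁻¹ * (y * (a * b) * y⁻¹) := by group
      inv_mem' := by
        rintro _ ⟨a, ha, rfl⟩
        refine ⟨a⁻¹, inv_mem ha, ?_⟩
        have e1 := hab a ha _ (inv_mem (hyT a ha))
        calc (a⁻¹ * (y * a * y⁻¹))⁻¹ = (y * a * y⁻¹)⁻¹ * a := by group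
          _ = a * (y * a * y⁻¹)⁻¹ := e1.symm
          _ = a⁻¹⁻¹ * (y * a⁻¹ * y⁻¹) := by group }
  have hDT : D ≤ T := by
    rintro _ ⟨a, ha, rfl⟩
    exact mul_mem (inv_mem ha) (hyT a ha)
  have hDy : ∀ u ∈ D, y * u * y⁻¹ ∈ D := by
    rintro _ ⟨a, ha, rfl⟩
    exact ⟨y * a * y⁻¹, hyT a ha, by group⟩
  have hDz : ∀ u ∈ D, z * u * z⁻¹ ∈ D := by
    rintro _ ⟨a, ha, rfl⟩
    refine ⟨z * a * z⁻¹, hzT a ha, ?_⟩
    have e1 : y * z = z * y := hyz
    have e2 : z⁻¹ * y⁻¹ = y⁻¹ * z⁻¹ := by rw [← mul_inv_rev, ← mul_inv_rev, e1]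
    calc z * (a⁻¹ * (y * a * y⁻¹)) * z⁻¹ = z * a⁻¹ * z⁻¹ * (z * y) * a * (y⁻¹ * z⁻¹) := by group
      _ = z * a⁻¹ * z⁻¹ * (y * z) * a * (z⁻¹ * y⁻¹) := by rw [e1, e2]
      _ = (z * a * z⁻¹)⁻¹ * (y * (z * a * z⁻¹) * y⁻¹) := by group
  have hD2 : ∀ u ∈ D, u * u = 1 := by
    rintro _ ⟨a, ha, rfl⟩
    have e1 := hab (y * a * y⁻¹) (hyT a ha) a⁻¹ (inv_mem ha)
    have e2 : y * (a * a) = (a * a) * y := mem_center_iff.1 (hZc (hSq ⟨a, ha, rfl⟩)) y
    calc a⁻¹ * (y * a * y⁻¹) * (a⁻¹ * (y * a * y⁻¹)) = a⁻¹ * ((y * a * y⁻¹) * a⁻¹) * (y * a * y⁻¹) := by group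
      _ = a⁻¹ * (a⁻¹ * (y * a * y⁻¹)) * (y * a * y⁻¹) := by rw [e1]
      _ = a⁻¹ * a⁻¹ * (y * (a * a)) * y⁻¹ := by group
      _ = a⁻¹ * a⁻¹ * (a * a * y) * y⁻¹ := by rw [e2]
      _ = 1 := by group
  have hD : D = T := by
    by_contra hcon
    have h1 := IH D hDT hcon hDy hDz
    apply hne
    intro t ht
    exact H1 t (h2el t ht) (comm_of_conj hy hZc hZ2 (h1 ⟨t, ht, rfl⟩))
  have hinj : Function.Injective (fun t : T => (⟨(t : G)⁻¹ * (y * t * y⁻¹), mul_mem (inv_mem t.2) (hyT t t.2)⟩ : T)) := by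
    apply Finite.injective_iff_surjective.2
    rintro ⟨x, hx⟩
    have hx' : x ∈ D := hD.symm ▸ hx
    obtain ⟨t, ht, rfl⟩ := hx'
    exact ⟨⟨t, ht⟩, rfl⟩
  have h1 : T = ⊥ := by
    refine H3 T (fun u hu => hD2 u (hD.symm ▸ hu)) hyT hzT ?_
    intro u hu hyu
    have h2 := @hinj ⟨u, hu⟩ 1 (Subtype.ext (by
      show u⁻¹ * (y * u * y⁻¹) = 1⁻¹ * (y * 1 * y⁻¹)
      rw [hyu]; group))
    exact congrArg Subtype.val h2
  exact hne (h1 ▸ bot_le)

/-- the commutators are trivial -/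
theorem two_comm (hy : y ^ 7 = 1) (hyz : y * z = z * y) (hZc : Z0 ≤ center G) (hZ2 : ∀ x ∈ Z0, x * x = 1)
    (H1 : ∀ u : G, (∃ k, u ^ 2 ^ k = 1) → y * u = u * y → u ∈ Z0)
    {T : Subgroup G} (hT : IsPGroup 2 T) (hyT : ∀ u ∈ T, y * u * y⁻¹ ∈ T) (hzT : ∀ u ∈ T, z * u * z⁻¹ ∈ T)
    (IH : ∀ S : Subgroup G, S ≤ T → S ≠ T → (∀ u ∈ S, y * u * y⁻¹ ∈ S) → (∀ u ∈ S, z * u * z⁻¹ ∈ S) → S ≤ Z0)
    (hcom : ∀ t ∈ T, ∀ u ∈ T, ⁅t, u⁆ ∈ Z0) : ∀ t ∈ T, ∀ u ∈ T, t * u = u * t := by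
  have h2el : ∀ u ∈ T, ∃ k, u ^ 2 ^ k = 1 := by
    intro u hu
    obtain ⟨k, hk⟩ := hT ⟨u, hu⟩
    exact ⟨k, by simpa using congrArg Subtype.val hk⟩
  have hcen : ∀ x ∈ Z0, ∀ g : G, g * x = x * g := fun x hx g => mem_center_iff.1 (hZc hx) g
  let _ : CommGroup Z0 := { (inferInstance : Group Z0) with
    mul_comm := fun a b => Subtype.ext (hcen b b.2 a) }
  let k : T → T → Z0 := fun t u => ⟨⁅(t : G), (u : G)⁆, hcom t t.2 u u.2⟩
  let σ : T → T := fun t => ⟨y * t * y⁻¹, hyT t t.2⟩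
  have hkv : ∀ t u : T, ((k t u : Z0) : G) = t * u * (t : G)⁻¹ * (u : G)⁻¹ := fun t u => commutatorElement_def _ _
  have hC : ∀ c : Z0, c * c = 1 := fun c => Subtype.ext (hZ2 c c.2)
  have hσv : ∀ t : T, ((σ t : T) : G) = y * t * y⁻¹ := fun t => rfl
  have hσm : ∀ t t' : T, σ (t * t') = σ t * σ t' := fun t t' => Subtype.ext (by
    show y * ((t : G) * t') * y⁻¹ = y * t * y⁻¹ * (y * t' * y⁻¹)
    group)
  have hσ1 : σ 1 = 1 := Subtype.ext (by
    show y * 1 * y⁻¹ = 1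
    group)
  have hσi : ∀ t : T, σ t⁻¹ = (σ t)⁻¹ := fun t => Subtype.ext (by
    show y * (t : G)⁻¹ * y⁻¹ = (y * t * y⁻¹)⁻¹
    group)
  have hσ7 : ∀ t, σ (σ (σ (σ (σ (σ (σ t)))))) = t := fun t => Subtype.ext (by
    have e1 : ((σ (σ (σ (σ (σ (σ (σ t)))))) : T) : G) = y ^ 7 * t * (y ^ 7)⁻¹ := by
      simp only [hσv]
      have e0 : y ^ 7 = y * y * y * y * y * y * y := by simp only [pow_succ, pow_zero, one_mul]
      rw [e0]
      group
    rw [e1, hy, one_mul, inv_one, mul_one])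
  have hmul : ∀ t t' u, k (t * t') u = k t u * k t' u := by
    intro t t' u
    apply Subtype.ext
    rw [Subgroup.coe_mul, hkv, hkv, hkv]
    have e1 := hcen _ (hcom t' t'.2 u u.2) (t : G)
    rw [commutatorElement_def] at e1
    rw [Subgroup.coe_mul]
    have e3 := hcen _ (hcom t' t'.2 u u.2) ((u : G) * (t : G)⁻¹ * (u : G)⁻¹)
    rw [commutatorElement_def] at e3
    calc (t : G) * t' * u * ((t : G) * t')⁻¹ * (u : G)⁻¹ =
        (t * (t' * u * (t' : G)⁻¹ * (u : G)⁻¹)) * (u * (t : G)⁻¹ * (u : G)⁻¹) := by group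
      _ = t * ((u * (t : G)⁻¹ * (u : G)⁻¹) * (t' * u * (t' : G)⁻¹ * (u : G)⁻¹)) := by rw [mul_assoc, e3]
      _ = t * u * (t : G)⁻¹ * (u : G)⁻¹ * (t' * u * (t' : G)⁻¹ * (u : G)⁻¹) := by group
  have hk1 : ∀ u, k 1 u = 1 := fun u => by
    apply Subtype.ext
    rw [hkv]
    show 1 * (u : G) * (1 : G)⁻¹ * (u : G)⁻¹ = 1
    group
  have hki : ∀ t u, k t⁻¹ u = (k t u)⁻¹ := fun t u => by
    apply eq_inv_of_mul_eq_one_left
    rw [← hmul, inv_mul_cancel, hk1]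
  have hs : ∀ t u, k t u = k u t := by
    intro t u
    have e1 : k t u * k u t = 1 := by
      apply Subtype.ext
      rw [Subgroup.coe_mul, hkv, hkv]
      show (t : G) * u * (t : G)⁻¹ * (u : G)⁻¹ * (u * t * (u : G)⁻¹ * (t : G)⁻¹) = 1
      group
    have e2 := hC (k u t)
    rw [← e2] at e1
    exact mul_right_cancel e1
  have hk : ∀ t u, k (σ t) (σ u) = k t u := by
    intro t u
    apply Subtype.ext
    rw [hkv, hkv, hσv, hσv]
    have e1 := hcen _ (hcom t t.2 u u.2) y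
    rw [commutatorElement_def] at e1
    calc y * t * y⁻¹ * (y * u * y⁻¹) * (y * t * y⁻¹)⁻¹ * (y * u * y⁻¹)⁻¹ =
        (y * (t * u * (t : G)⁻¹ * (u : G)⁻¹)) * y⁻¹ := by group
      _ = t * u * (t : G)⁻¹ * (u : G)⁻¹ := by rw [e1, mul_inv_cancel_right]
  have hkZ : ∀ t : T, (t : G) ∈ Z0 → ∀ u, k t u = 1 := by
    intro t ht u
    apply Subtype.ext
    rw [hkv, ← hcen _ ht u]
    show (u : G) * t * (t : G)⁻¹ * (u : G)⁻¹ = 1
    group
  -- the subgroup
  let T1 : Subgroup T :=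
    { carrier := {t | ∀ u, k t u * k (σ t) u * k (σ (σ (σ t))) u = 1}
      one_mem' := fun u => by rw [hσ1, hσ1, hσ1, hk1, one_mul, one_mul]
      mul_mem' := by
        intro a b ha hb u
        have e1 := ha u
        have e2 := hb u
        rw [hσm, hσm, hσm, hmul, hmul, hmul]
        calc k a u * k b u * (k (σ a) u * k (σ b) u) * (k (σ (σ (σ a))) u * k (σ (σ (σ b))) u) =
            (k a u * k (σ a) u * k (σ (σ (σ a))) u) * (k b u * k (σ b) u * k (σ (σ (σ b))) u) := by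
              rw [mul_mul_mul_comm (k a u), mul_mul_mul_comm]
          _ = 1 := by rw [e1, e2, one_mul]
      inv_mem' := by
        intro a ha u
        have e1 := ha u
        rw [hσi, hσi, hσi, hki, hki, hki, ← mul_inv, ← mul_inv, e1, inv_one] }
  have hT1m : ∀ t : T, t ∈ T1 ↔ ∀ u, k t u * k (σ t) u * k (σ (σ (σ t))) u = 1 := fun t => Iff.rfl
  have hτk : ∀ (t u : T), k ⟨z * t * z⁻¹, hzT t t.2⟩ ⟨z * u * z⁻¹, hzT u u.2⟩ = k t u := by
    intro t u
    apply Subtype.ext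
    rw [hkv, hkv]
    have e1 := hcen _ (hcom t t.2 u u.2) z
    rw [commutatorElement_def] at e1
    calc z * t * z⁻¹ * (z * u * z⁻¹) * (z * t * z⁻¹)⁻¹ * (z * u * z⁻¹)⁻¹ =
        (z * (t * u * (t : G)⁻¹ * (u : G)⁻¹)) * z⁻¹ := by group
      _ = t * u * (t : G)⁻¹ * (u : G)⁻¹ := by rw [e1, mul_inv_cancel_right]
  have hστ : ∀ t : T, σ ⟨z * t * z⁻¹, hzT t t.2⟩ = ⟨z * (σ t : T) * z⁻¹, hzT _ (σ t).2⟩ := by
    intro t
    apply Subtype.ext
    show y * (z * t * z⁻¹) * y⁻¹ = z * (y * t * y⁻¹) * z⁻¹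
    have e2 : z⁻¹ * y⁻¹ = y⁻¹ * z⁻¹ := by rw [← mul_inv_rev, ← mul_inv_rev, hyz]
    calc y * (z * t * z⁻¹) * y⁻¹ = (y * z) * t * (z⁻¹ * y⁻¹) := by group
      _ = (z * y) * t * (y⁻¹ * z⁻¹) := by rw [hyz, e2]
      _ = z * (y * t * y⁻¹) * z⁻¹ := by group
  have hsurjτ : ∀ u : T, ∃ v : T, u = ⟨z * v * z⁻¹, hzT v v.2⟩ := by
    have h1 : Function.Injective (fun v : T => (⟨z * v * z⁻¹, hzT v v.2⟩ : T)) := by
      intro a b hab
      have : z * (a : G) * z⁻¹ = z * b * z⁻¹ := congrArg Subtype.val hab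
      exact Subtype.ext (mul_left_cancel (mul_right_cancel this))
    intro u
    obtain ⟨v, hv⟩ := Finite.injective_iff_surjective.1 h1 u
    exact ⟨v, hv.symm⟩
  have hT1 : T1 = ⊤ ∨ ∀ t ∈ T1, (t : G) ∈ Z0 := by
    by_cases hc : T1.map T.subtype = T
    · left
      apply Subgroup.map_injective T.subtype_injective
      rw [hc, ← MonoidHom.range_eq_map, Subgroup.range_subtype]
    · right
      have h1 := IH (T1.map T.subtype) (Subgroup.map_subtype_le _) hc ?_ ?_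
      · intro t ht
        exact h1 ⟨t, ht, rfl⟩
      · rintro _ ⟨t, ht, rfl⟩
        refine ⟨σ t, ?_, rfl⟩
        intro u
        have e1 := ht (σ (σ (σ (σ (σ (σ u))))))
        have e2 : ∀ w : T, k w (σ (σ (σ (σ (σ (σ u)))))) = k (σ w) u := fun w => by
          rw [← hk w, hσ7 u]
        rw [e2, e2, e2] at e1
        exact e1
      · rintro _ ⟨t, ht, rfl⟩
        refine ⟨⟨z * t * z⁻¹, hzT t t.2⟩, ?_, rfl⟩
        intro u
        obtain ⟨v, rfl⟩ := hsurjτ u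
        have e1 := ht v
        rw [hστ, hστ, hστ, hτk, hτk, hτk]
        exact e1
  have hk0 : ∀ t u, k t u = 1 := by
    refine bil_one hC σ hσ7 k hs hk ?_
    rcases hT1 with h | h
    · left
      intro t u
      have : t ∈ T1 := h ▸ Subgroup.mem_top t
      exact this u
    · right
      intro t u
      -- the norm
      set N : T := t * σ t * σ (σ t) * σ (σ (σ t)) * σ (σ (σ (σ t))) * σ (σ (σ (σ (σ t)))) *
        σ (σ (σ (σ (σ (σ t))))) with hN
      have hσN : σ N = t⁻¹ * N * t := by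
        rw [hN]
        simp only [hσm, hσ7]
        group
      have hNZ : (N : G) ∈ Z0 := by
        refine H1 N (h2el N N.2) (comm_of_conj hy hZc hZ2 ?_)
        have e1 : ((σ N : T) : G) = (t : G)⁻¹ * N * t := by rw [hσN]; rfl
        rw [← hσv, e1]
        have e2 := hcom (N : G)⁻¹ (inv_mem N.2) (t : G)⁻¹ (inv_mem t.2)
        rw [commutatorElement_def, inv_inv, inv_inv] at e2
        rwa [← mul_assoc, ← mul_assoc]
      have hw : t * σ (σ t) * σ (σ (σ t)) ∈ T1 := by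
        intro v
        have e1 := hkZ N hNZ v
        rw [hN] at e1
        simp only [hmul] at e1
        simp only [hσm, hmul]
        have e3 := hC (k (σ (σ (σ t))) v)
        set a0 := k t v
        set a1 := k (σ t) v
        set a2 := k (σ (σ t)) v
        set a3 := k (σ (σ (σ t))) v
        set a4 := k (σ (σ (σ (σ t)))) v
        set a5 := k (σ (σ (σ (σ (σ t))))) v
        set a6 := k (σ (σ (σ (σ (σ (σ t)))))) v
        calc a0 * a2 * a3 * (a1 * a3 * a4) * (a3 * a5 * a6) = a0 * a1 * a2 * a3 * a4 * a5 * a6 * (a3 * a3) :=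
              nine a0 a1 a2 a3 a4 a5 a6
          _ = 1 := by rw [e1, e3, one_mul]
      have hwZ := h _ hw
      have e1 := hkZ _ hwZ u
      rwa [hmul, hmul] at e1
  intro t ht u hu
  have e1 := congrArg Subtype.val (hk0 ⟨t, ht⟩ ⟨u, hu⟩)
  have e2 : t * u * t⁻¹ * u⁻¹ = 1 := by
    have := hkv ⟨t, ht⟩ ⟨u, hu⟩
    rw [← this, e1]
    rfl
  rw [mul_inv_eq_one, mul_inv_eq_iff_eq_mul] at e2
  exact e2

/-- **The `2`-groups normalised by `y` and `z`.** -/
theorem two_group (hy : y ^ 7 = 1) (hyz : y * z = z * y) (hZc : Z0 ≤ center G) (hZ2 : ∀ x ∈ Z0, x * x = 1)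
    (H1 : ∀ u : G, (∃ k, u ^ 2 ^ k = 1) → y * u = u * y → u ∈ Z0)
    (H3 : ∀ T : Subgroup G, (∀ u ∈ T, u * u = 1) → (∀ u ∈ T, y * u * y⁻¹ ∈ T) → (∀ u ∈ T, z * u * z⁻¹ ∈ T) →
      (∀ u ∈ T, y * u = u * y → u = 1) → T = ⊥) :
    ∀ (n : ℕ) (T : Subgroup G), Nat.card T = n → IsPGroup 2 T → (∀ u ∈ T, y * u * y⁻¹ ∈ T) →
      (∀ u ∈ T, z * u * z⁻¹ ∈ T) → T ≤ Z0 := by
  intro n
  induction n using Nat.strong_induction_on with
  | _ n ih =>
  intro T hTn hT hyT hzT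
  have IH : ∀ S : Subgroup G, S ≤ T → S ≠ T → (∀ u ∈ S, y * u * y⁻¹ ∈ S) → (∀ u ∈ S, z * u * z⁻¹ ∈ S) →
      S ≤ Z0 := by
    intro S hS hST h1 h2
    refine ih (Nat.card S) ?_ S rfl (hT.to_le hS) h1 h2
    rw [← hTn]
    exact lt_of_le_of_ne (Subgroup.card_le_of_le hS) (fun h => hST (Subgroup.eq_of_le_of_card_ge hS h.ge))
  by_cases hT1 : T = ⊥
  · rw [hT1]; exact bot_le
  have hcom : ∀ t ∈ T, ∀ u ∈ T, ⁅t, u⁆ ∈ Z0 := by
    have h1 : ⁅T, T⁆ ≤ T := by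
      rw [Subgroup.commutator_le]
      intro a ha b hb
      exact mul_mem (mul_mem (mul_mem ha hb) (inv_mem ha)) (inv_mem hb)
    have h2 := IH ⁅T, T⁆ h1 (commutator_ne hT hT1) (map_conj_le hyT) (map_conj_le hzT)
    intro t ht u hu
    exact h2 (Subgroup.commutator_mem_commutator ht hu)
  exact two_abelian hy hyz hZc hZ2 H1 H3 hT hyT hzT IH (two_comm hy hyz hZc hZ2 H1 hT hyT hzT IH hcom)

end Main

end Cfsg.Agent.H99.AS
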