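import Cfsg.Agent.H99.AS.Gen
import Cfsg.Agent.H99.AS.TwoG

/-!
# S3943 (helper99): elementary abelian `2`-groups normalised by `y z` of order 21 in dimension at most 8

* `char_indep` : eigenvectors for distinct characters are linearly independent;
* `no_elem` : no elementary abelian `2`-group `T ≠ 1` normalised by `y`, `z` with `C_T(y) = C_T(z) = 1`;
* `cent_three` : `C_T(z) ≤ C_T(y)` if `y` is trivial on `[V, z]`.
-/

set_option autoImplicit false
set_option linter.unusedSectionVars false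

namespace Cfsg.Agent.H99.AS

open Module Subgroup Cfsg.Agent.H518.DghpFix Cfsg.Agent.H518.SU

universe u v w

theorem char_indep {F : Type u} [Field F] {V : Type v} [AddCommGroup V] [Module F V] {T : Type w} [Group T]
    (φ : T →* (V →ₗ[F] V)) {ι : Type} [Fintype ι] (b : ι → V) (hb : ∀ i, b i ≠ 0) (χ : ι → (T →* F))
    (hχ : Function.Injective χ) (h : ∀ i t, φ t (b i) = χ i t • b i) : LinearIndependent F b := by
  rw [Fintype.linearIndependent_iff]
  intro g hg i
  have hli : LinearIndependent F (fun i => (χ i : T → F)) :=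
    (linearIndependent_monoidHom T F).comp χ hχ
  rw [Fintype.linearIndependent_iff] at hli
  have h1 : ∀ f : Module.Dual F V, g i * f (b i) = 0 := by
    intro f
    refine hli (fun i => g i * f (b i)) ?_ i
    funext t
    have h2 := congrArg (fun v => f (φ t v)) hg
    simp only [map_sum, map_smul, h, map_zero] at h2
    rw [Finset.sum_apply, Pi.zero_apply, ← h2]
    refine Finset.sum_congr rfl fun j _ => ?_
    simp only [Pi.smul_apply, smul_eq_mul]
    ring
  by_contra hgi
  apply hb i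
  rw [← Module.forall_dual_apply_eq_zero_iff F]
  intro f
  exact (mul_eq_zero.1 (h1 f)).resolve_left hgi

section

variable {F : Type u} [Field F] {V : Type v} [AddCommGroup V] [Module F V] {G : Type w} [Group G]

/-- a common eigenvector -/
theorem exists_eigen (φ : G →* (V →ₗ[F] V)) {T : Subgroup G} (h2 : ∀ u ∈ T, u * u = 1) [Finite T] {d : G} (hd : d ∈ T)
    {v₀ : V} (hv₀ : v₀ ≠ 0) (hdv : φ d v₀ = -v₀) :
    ∃ v, v ≠ 0 ∧ φ d v = -v ∧ ∀ t ∈ T, φ t v = v ∨ φ t v = -v := by
  classical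
  have hab : ∀ t ∈ T, ∀ u ∈ T, t * u = u * t := by
    intro t ht u hu
    have h1 := h2 t ht
    have h3 := h2 u hu
    have h4 := h2 (t * u) (mul_mem ht hu)
    calc t * u = (t * u)⁻¹ := (inv_eq_of_mul_eq_one_left h4).symm
      _ = u⁻¹ * t⁻¹ := mul_inv_rev t u
      _ = u * t := by rw [inv_eq_of_mul_eq_one_left h1, inv_eq_of_mul_eq_one_left h3]
  have hTf : (T : Set G).Finite := Set.toFinite _
  have key : ∀ s : Finset G, (∀ t ∈ s, t ∈ T) → ∃ v, v ≠ 0 ∧ φ d v = -v ∧ ∀ t ∈ s, φ t v = v ∨ φ t v = -v := by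
    intro s
    induction s using Finset.induction_on with
    | empty => intro _; exact ⟨v₀, hv₀, hdv, fun t ht => absurd ht (Finset.notMem_empty t)⟩
    | insert a s ha ih =>
      intro hs
      obtain ⟨v, hv, hd', hv'⟩ := ih fun t ht => hs t (Finset.mem_insert_of_mem ht)
      have haT := hs a (Finset.mem_insert_self _ _)
      by_cases h0 : v + φ a v = 0
      · refine ⟨v, hv, hd', ?_⟩
        intro t ht
        rcases Finset.mem_insert.1 ht with rfl | ht
        · exact Or.inr (eq_neg_of_add_eq_zero_right h0)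
        · exact hv' t ht
      · have hc : ∀ t ∈ T, ∀ w, φ t (φ a w) = φ a (φ t w) := by
          intro t ht w
          rw [← Module.End.mul_apply, ← map_mul, hab t ht a haT, map_mul, Module.End.mul_apply]
        refine ⟨v + φ a v, h0, ?_, ?_⟩
        · rw [map_add, hc d hd, hd', map_neg, neg_add]
        · intro t ht
          rcases Finset.mem_insert.1 ht with rfl | ht
          · left
            rw [map_add, ← Module.End.mul_apply, ← map_mul, h2 t haT, map_one, Module.End.one_apply, add_comm]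
          · have htT := hs t (Finset.mem_insert_of_mem ht)
            rcases hv' t ht with h | h
            · left
              rw [map_add, hc t htT, h]
            · right
              rw [map_add, hc t htT, h, map_neg, neg_add]
  obtain ⟨v, h1, h3, h4⟩ := key hTf.toFinset fun t ht => hTf.mem_toFinset.1 ht
  exact ⟨v, h1, h3, fun t ht => h4 t (hTf.mem_toFinset.2 ht)⟩

/-- **No elementary abelian `2`-group.** -/
theorem no_elem [FiniteDimensional F V] [Finite G] (φ : G →* (V →ₗ[F] V)) (hφ : Function.Injective φ)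
    (h2F : (2 : F) ≠ 0) {y z : G} (hy : y ^ 7 = 1) (hz : z ^ 3 = 1) (hyz : y * z = z * y) (hn : finrank F V < 9)
    (T : Subgroup G) (h2 : ∀ u ∈ T, u * u = 1) (hyT : ∀ u ∈ T, y * u * y⁻¹ ∈ T) (hzT : ∀ u ∈ T, z * u * z⁻¹ ∈ T)
    (hCy : ∀ u ∈ T, y * u = u * y → u = 1) (hCz : ∀ u ∈ T, z * u = u * z → u = 1) : T = ⊥ := by
  classical
  by_contra hT1
  obtain ⟨d, hd, hd1⟩ := T.bot_or_exists_ne_one.resolve_left hT1
  have hd1' : φ d ≠ 1 := fun h => hd1 (hφ (by rw [h, map_one]))
  have hw : ∃ w, φ d w ≠ w := by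
    by_contra hcon
    push Not at hcon
    exact hd1' (LinearMap.ext fun w => hcon w)
  obtain ⟨w, hw⟩ := hw
  have hv0 : w - φ d w ≠ 0 := fun h => hw (sub_eq_zero.1 h).symm
  have hdv : φ d (w - φ d w) = -(w - φ d w) := by
    rw [map_sub, ← Module.End.mul_apply, ← map_mul, h2 d hd, map_one, Module.End.one_apply, neg_sub]
  obtain ⟨v, hv, hdv', hev⟩ := exists_eigen φ h2 hd hv0 hdv
  have hneg : (-1 : F) ≠ 1 := by
    intro h
    apply h2F
    have : (1 : F) + 1 = 0 := by nth_rewrite 1 [← h]; exact neg_add_cancel 1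
    rw [← this]; norm_num
  have hex : ∀ t : T, ∃ c : F, (c = 1 ∨ c = -1) ∧ φ t v = c • v := by
    intro t
    rcases hev t t.2 with h | h
    · exact ⟨1, Or.inl rfl, by rw [one_smul, h]⟩
    · exact ⟨-1, Or.inr rfl, by rw [neg_smul, one_smul, h]⟩
  choose c hc1 hc2 using hex
  let χ : T →* F :=
    { toFun := c
      map_one' := by
        have h1 := hc2 1
        rw [Subgroup.coe_one, map_one, Module.End.one_apply] at h1
        have h3 : (1 : F) • v = c 1 • v := by rw [one_smul]; exact h1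
        exact (smul_left_injective F hv h3).symm
      map_mul' := fun a b => by
        have h1 := hc2 (a * b)
        rw [Subgroup.coe_mul, map_mul, Module.End.mul_apply, hc2 b, map_smul, hc2 a, smul_smul] at h1
        rw [mul_comm (c a)]
        exact (smul_left_injective F hv h1).symm }
  have hχ : ∀ t : T, φ t v = χ t • v := hc2
  have hχd : χ ⟨d, hd⟩ = -1 := by
    have h1 := hχ ⟨d, hd⟩
    have h3 : φ d v = (-1 : F) • v := by rw [neg_smul, one_smul, hdv']
    exact (smul_left_injective F hv (h3.symm.trans h1)).symm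
  -- the normaliser
  set s := y * z with hs
  have hcyz : Commute y z := hyz
  have hconj : ∀ g : G, g ∈ zpowers s → ∀ t ∈ T, g⁻¹ * t * g ∈ T := by
    have h1 : s ∈ Subgroup.normalizer (T : Set G) := by
      refine mem_normalizer_fintype fun x hx => ?_
      have := hyT _ (hzT x hx)
      rwa [show y * (z * x * z⁻¹) * y⁻¹ = y * z * x * (y * z)⁻¹ by group] at this
    intro g hg t ht
    have h3 : g ∈ Subgroup.normalizer (T : Set G) := (zpowers_le.2 h1) hg
    exact (Subgroup.mem_normalizer_iff''.1 h3 t).1 ht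
  let conj : ∀ g : G, g ∈ zpowers s → T →* T := fun g hg =>
    { toFun := fun t => ⟨g⁻¹ * t * g, hconj g hg t t.2⟩
      map_one' := Subtype.ext (by
        show g⁻¹ * 1 * g = 1
        group)
      map_mul' := fun a b => Subtype.ext (by
        show g⁻¹ * ((a : G) * b) * g = g⁻¹ * a * g * (g⁻¹ * b * g)
        group) }
  have hpow : ∀ i : ℕ, s ^ i ∈ zpowers s := fun i => pow_mem (mem_zpowers s) i
  have hy1 : s ^ 15 = y := by
    rw [hs, hcyz.mul_pow, show 15 = 7 * 2 + 1 by norm_num, pow_add, pow_mul, hy, one_pow, one_mul, pow_one,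
      show 7 * 2 + 1 = 3 * 5 by norm_num, pow_mul, hz, one_pow, mul_one]
  have hz1 : s ^ 7 = z := by
    rw [hs, hcyz.mul_pow, hy, one_mul, show 7 = 3 * 2 + 1 by norm_num, pow_add, pow_mul, hz, one_pow, one_mul, pow_one]
  have hs21 : s ^ 21 = 1 := by
    rw [hs, hcyz.mul_pow, show 21 = 7 * 3 by norm_num, pow_mul, hy, one_pow, one_mul, mul_comm 7 3, pow_mul, hz, one_pow]
  -- the kernel
  have hker : ∀ (g : G) (hg : g ∈ zpowers s), (∀ t : T, χ ⟨g⁻¹ * t * g, hconj g hg t t.2⟩ = χ t) → ∀ n : ℕ,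
      ∀ (hgn : g ^ n ∈ zpowers s) (t : T), χ ⟨(g ^ n)⁻¹ * t * g ^ n, hconj _ hgn t t.2⟩ = χ t := by
    intro g hg hgt n
    induction n with
    | zero =>
      intro hgn t
      congr 1
      apply Subtype.ext
      show (g ^ 0)⁻¹ * (t : G) * g ^ 0 = t
      rw [pow_zero]; group
    | succ n ih =>
      intro hgn t
      have hgn' : g ^ n ∈ zpowers s := pow_mem hg n
      rw [← ih hgn' t, ← hgt ⟨(g ^ n)⁻¹ * t * g ^ n, hconj _ hgn' t t.2⟩]
      congr 1
      apply Subtype.ext
      show (g ^ (n + 1))⁻¹ * (t : G) * g ^ (n + 1) = g⁻¹ * ((g ^ n)⁻¹ * t * g ^ n) * g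
      rw [pow_succ]; group
  -- no fixed characters
  have hno : ∀ (g : G) (hg : g ∈ zpowers s), (∀ u ∈ T, g * u = u * g → u = 1) →
      ¬ (∀ t : T, χ ⟨g⁻¹ * t * g, hconj g hg t t.2⟩ = χ t) := by
    intro g hg hC hfix
    have hab : ∀ t ∈ T, ∀ u ∈ T, t * u = u * t := by
      intro t ht u hu
      have h1 := h2 t ht
      have h3 := h2 u hu
      have h4 := h2 (t * u) (mul_mem ht hu)
      calc t * u = (t * u)⁻¹ := (inv_eq_of_mul_eq_one_left h4).symm
        _ = u⁻¹ * t⁻¹ := mul_inv_rev t u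
        _ = u * t := by rw [inv_eq_of_mul_eq_one_left h1, inv_eq_of_mul_eq_one_left h3]
    have hgc : ∀ c : G, g⁻¹ * c * g = c → g * c = c * g := fun c h => by
      rw [mul_assoc, inv_mul_eq_iff_eq_mul] at h
      exact h.symm
    let δ : T → T := fun t => t⁻¹ * ⟨g⁻¹ * t * g, hconj g hg t t.2⟩
    have hinj : Function.Injective δ := by
      intro a b hab'
      have h1 : (a : G)⁻¹ * (g⁻¹ * a * g) = (b : G)⁻¹ * (g⁻¹ * b * g) := congrArg Subtype.val hab'
      have h3 : g * ((a : G) * (b : G)⁻¹) = ((a : G) * (b : G)⁻¹) * g := by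
        have e1 : (b : G) * (a : G)⁻¹ * (g⁻¹ * a * g) * (g⁻¹ * b * g)⁻¹ = 1 := by
          rw [mul_assoc (b : G), h1]; group
        have e2 : (b : G) * (a : G)⁻¹ * (g⁻¹ * (a * (b : G)⁻¹) * g) = 1 := by
          rw [← e1]; group
        have e3 : g⁻¹ * (a * (b : G)⁻¹) * g = a * (b : G)⁻¹ := by
          have := eq_inv_of_mul_eq_one_right e2
          rw [this]; group
        exact hgc _ e3
      have h4 := hC _ (mul_mem a.2 (inv_mem b.2)) h3
      exact Subtype.ext (mul_inv_eq_one.1 h4)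
    obtain ⟨t, ht⟩ := Finite.injective_iff_surjective.1 hinj ⟨d, hd⟩
    have h1 : χ ⟨d, hd⟩ = 1 := by
      rw [← ht]
      show χ (t⁻¹ * ⟨g⁻¹ * t * g, hconj g hg t t.2⟩) = 1
      rw [map_mul, hfix, ← map_mul, inv_mul_cancel, map_one]
    rw [hχd] at h1
    exact hneg h1
  -- the characters
  let X : Fin 9 → (T →* F) := fun i => χ.comp (conj (s ^ (i : ℕ)) (hpow i))
  have hXinj : Function.Injective X := by
    have hlt : ∀ i j : Fin 9, i < j → X i ≠ X j := by
      intro i j hij hX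
      obtain ⟨k, hk⟩ : ∃ k : ℕ, (j : ℕ) = i + k := ⟨j - i, by
        have : (i : ℕ) ≤ j := le_of_lt hij
        omega⟩
      have hk0 : 0 < k := by
        have : (i : ℕ) < j := hij
        omega
      have hk9 : k < 9 := by
        have := j.2
        omega
      have h1 : ∀ t : T, χ ⟨(s ^ k)⁻¹ * t * s ^ k, hconj _ (hpow k) t t.2⟩ = χ t := by
        intro t
        -- `t = (s ^ i)⁻¹ * t' * s ^ i`
        have ht' : s ^ (i : ℕ) * t * (s ^ (i : ℕ))⁻¹ ∈ T := by
          have := hconj (s ^ (i : ℕ))⁻¹ (inv_mem (hpow i)) t t.2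
          rwa [inv_inv] at this
        have h3 := DFunLike.congr_fun hX ⟨_, ht'⟩
        have h4 : X i ⟨_, ht'⟩ = χ t := by
          show χ _ = χ t
          congr 1
          apply Subtype.ext
          show (s ^ (i : ℕ))⁻¹ * (s ^ (i : ℕ) * t * (s ^ (i : ℕ))⁻¹) * s ^ (i : ℕ) = t
          group
        have h5 : X j ⟨_, ht'⟩ = χ ⟨(s ^ k)⁻¹ * t * s ^ k, hconj _ (hpow k) t t.2⟩ := by
          show χ _ = χ _
          congr 1
          apply Subtype.ext
          show (s ^ (j : ℕ))⁻¹ * (s ^ (i : ℕ) * t * (s ^ (i : ℕ))⁻¹) * s ^ (j : ℕ) = (s ^ k)⁻¹ * t * s ^ k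
          rw [hk, pow_add]; group
        rw [← h5, ← h4, h3]
      have h3 := hker (s ^ k) (hpow k) h1
      have hred : ∀ e : ℕ, (s ^ k) ^ e = s ^ ((k * e) % 21) := fun e => by
        rw [← pow_mul, pow_eq_pow_mod (k * e) hs21]
      have hyk : (∃ e, (k * e) % 21 = 15) → False := by
        rintro ⟨e, he⟩
        have e1 : (s ^ k) ^ e = y := by rw [hred, he, hy1]
        refine hno y (hy1 ▸ hpow 15) hCy fun t => ?_
        have h4 := h3 e (pow_mem (hpow k) e) t
        rw [← h4]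
        congr 1
        apply Subtype.ext
        show y⁻¹ * (t : G) * y = ((s ^ k) ^ e)⁻¹ * t * (s ^ k) ^ e
        rw [e1]
      have hzk : (∃ e, (k * e) % 21 = 7) → False := by
        rintro ⟨e, he⟩
        have e1 : (s ^ k) ^ e = z := by rw [hred, he, hz1]
        refine hno z (hz1 ▸ hpow 7) hCz fun t => ?_
        have h4 := h3 e (pow_mem (hpow k) e) t
        rw [← h4]
        congr 1
        apply Subtype.ext
        show z⁻¹ * (t : G) * z = ((s ^ k) ^ e)⁻¹ * t * (s ^ k) ^ e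
        rw [e1]
      interval_cases k
      · exact hyk ⟨15, rfl⟩
      · exact hyk ⟨18, rfl⟩
      · exact hyk ⟨5, rfl⟩
      · exact hyk ⟨9, rfl⟩
      · exact hyk ⟨3, rfl⟩
      · exact hyk ⟨6, rfl⟩
      · exact hzk ⟨1, rfl⟩
      · exact hyk ⟨15, rfl⟩
    intro i j hij
    rcases lt_trichotomy i j with h | h | h
    · exact absurd hij (hlt i j h)
    · exact h
    · exact absurd hij.symm (hlt j i h)
  have hli := char_indep (φ.comp T.subtype) (fun i : Fin 9 => φ (s ^ (i : ℕ)) v) ?_ X hXinj ?_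
  · have h1 := hli.fintype_card_le_finrank
    rw [Fintype.card_fin] at h1
    omega
  · intro i h
    apply hv
    have h1 : φ ((s ^ (i : ℕ))⁻¹) (φ (s ^ (i : ℕ)) v) = v := by
      rw [← Module.End.mul_apply, ← map_mul, inv_mul_cancel, map_one, Module.End.one_apply]
    rw [← h1]
    show φ ((s ^ (i : ℕ))⁻¹) (φ (s ^ (i : ℕ)) v) = 0
    rw [show φ (s ^ (i : ℕ)) v = 0 from h, map_zero]
  · intro i t
    show φ (t : G) (φ (s ^ (i : ℕ)) v) = χ _ • φ (s ^ (i : ℕ)) v
    rw [← map_smul, ← hχ, ← Module.End.mul_apply, ← Module.End.mul_apply, ← map_mul, ← map_mul]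
    congr 2
    show (t : G) * s ^ (i : ℕ) = s ^ (i : ℕ) * ((s ^ (i : ℕ))⁻¹ * t * s ^ (i : ℕ))
    group

/-- `C_T(z) ≤ C_T(y)` for `z` of order 3 with `y` trivial on `[V, z]` -/
theorem cent_three [FiniteDimensional F V] [Finite G] (φ : G →* (V →ₗ[F] V)) (hφ : Function.Injective φ) {p : ℕ}
    (hp : p.Prime) (hp2 : p ≠ 2) (h2F : (2 : F) ≠ 0) (h3F : (3 : F) ≠ 0) {y z : G} (hy : orderOf y = p)
    (hz : z ^ 3 = 1) (hyz : y * z = z * y) (hV2 : ∀ v, φ y (φ z v - v) = φ z v - v)
    (hn : finrank F (fixS (φ z)) + 1 < p ∨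
      (finrank F (fixS (φ z)) + 1 = p ∧ ¬ (∃ k, finrank F (fixS (φ z)) = 2 ^ k)))
    {T : Subgroup G} (hT : IsPGroup 2 T) (hyT : ∀ u ∈ T, y * u * y⁻¹ ∈ T) :
    ∀ u ∈ T, u * z = z * u → y * u = u * y := by
  have : Fact (Nat.Prime 2) := ⟨Nat.prime_two⟩
  have hyp : y ^ p = 1 := by rw [← hy, pow_orderOf_eq_one]
  intro u hu huz
  set H : Subgroup G := centralizer ({z} : Set G) with hH
  have hW : ∀ h : H, ∀ v ∈ fixS (φ z), (φ.comp H.subtype) h v ∈ fixS (φ z) := by
    intro h v hv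
    have h1 : (h : G) * z = z * h := mem_centralizer_singleton_iff.1 h.2
    show φ z (φ (h : G) v) = φ (h : G) v
    rw [← Module.End.mul_apply, ← map_mul, ← h1, map_mul, Module.End.mul_apply]
    exact congrArg _ hv
  have hyH : y ∈ H := mem_centralizer_singleton_iff.2 hyz
  have huH : u ∈ H := mem_centralizer_singleton_iff.2 huz
  have h1 := centralize_rep' (resHom (φ.comp H.subtype) (fixS (φ z)) hW) hp hp2 Nat.prime_two (Ne.symm hp2)
    (by exact_mod_cast h2F) (y := ⟨y, hyH⟩) (Subtype.ext hyp) (T := T.subgroupOf H)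
    (hT.comap_of_injective _ H.subtype_injective) ?_ ?_ ⟨u, huH⟩ (mem_subgroupOf.2 hu)
  · apply hφ
    ext v
    -- decompose `v`
    have hz3 : φ z (φ z (φ z v)) = v := by
      rw [← Module.End.mul_apply, ← Module.End.mul_apply, ← map_mul, ← map_mul,
        show z * z * z = z ^ 3 by rw [pow_succ, pow_two], hz, map_one]; rfl
    set a := v + φ z v + φ z (φ z v) with ha
    have haz : a ∈ fixS (φ z) := by
      show φ z a = a
      rw [ha, map_add, map_add, hz3]; abel
    have hab : (3 : F) • v = a - (φ z v - v) - (φ z v - v) - (φ z (φ z v) - φ z v) := by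
      have h3 : (3 : F) • v = v + v + v := by
        rw [show (3 : F) = 1 + 1 + 1 by norm_num, add_smul, add_smul, one_smul]
      rw [ha, h3]; abel
    have e1 : φ (y * u) a = φ (u * y) a := by
      have h4 := LinearMap.congr_fun h1 ⟨a, haz⟩
      exact congrArg Subtype.val h4
    have e2 : ∀ w, φ (y * u) (φ z w - w) = φ (u * y) (φ z w - w) := by
      intro w
      rw [map_mul, map_mul, Module.End.mul_apply, Module.End.mul_apply, hV2 w]
      have h5 : φ u (φ z w - w) = φ z (φ u w) - φ u w := by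
        rw [map_sub, ← Module.End.mul_apply, ← map_mul, huz, map_mul, Module.End.mul_apply]
      rw [h5, hV2]
    have e3 : (3 : F) • φ (y * u) v = (3 : F) • φ (u * y) v := by
      rw [← map_smul, ← map_smul, hab, map_sub (φ (y * u)), map_sub (φ (y * u)), map_sub (φ (y * u)),
        map_sub (φ (u * y)), map_sub (φ (u * y)), map_sub (φ (u * y)), e1, e2 v, e2 (φ z v)]
    exact smul_right_injective V h3F e3
  · intro x hx
    exact mem_subgroupOf.2 (hyT _ (mem_subgroupOf.1 hx))
  · rcases hn with h | ⟨h, h'⟩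
    · exact Or.inl h
    · exact Or.inr ⟨h, fun h'' => h' h''.2⟩

end

/-- recover `y` and `z` from `y z`, `z ^ 3 = 1` -/
theorem exists_pows {G : Type u} [Group G] {p : ℕ} (hp : p.Prime) {y z : G} (hy : orderOf y = p) (hzz : z ^ 3 = 1)
    (hp3 : p ≠ 3) (hyz : y * z = z * y) : ∃ m n : ℕ, (y * z) ^ m = y ∧ (y * z) ^ n = z := by
  have hc : Commute y z := hyz
  have hyp : y ^ p = 1 := by rw [← hy, pow_orderOf_eq_one]
  have hco : Nat.Coprime p 3 := (Nat.coprime_primes hp Nat.prime_three).2 hp3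
  obtain ⟨m, hm1, hm2⟩ := Nat.chineseRemainder hco 1 0
  obtain ⟨n, hn1, hn2⟩ := Nat.chineseRemainder hco 0 1
  have hmod : ∀ {g : G} {k a b : ℕ}, g ^ k = 1 → a ≡ b [MOD k] → g ^ a = g ^ b := by
    intro g k a b hg hab
    exact pow_eq_pow_iff_modEq.2 (hab.of_dvd (orderOf_dvd_of_pow_eq_one hg))
  refine ⟨m, n, ?_, ?_⟩
  · rw [hc.mul_pow, hmod hyp hm1, hmod hzz hm2, pow_one, pow_zero, mul_one]
  · rw [hc.mul_pow, hmod hyp hn1, hmod hzz hn2, pow_one, pow_zero, one_mul]

/-- **`Elc` from centralised normal `t`-subgroups**, `z` of order 3. -/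
theorem elc_of3 {G : Type u} [Group G] [Finite G] {p : ℕ} (hp : p.Prime) {y z : G} (hy : orderOf y = p)
    (hzz : z ^ 3 = 1) (hp3 : p ≠ 3) (hyz : y * z = z * y)
    (h1 : ∀ M : Subgroup G, Group.IsSolvable M → y ∈ M → z ∈ M → ∀ t : ℕ, t.Prime → t ≠ p → ∀ T : Subgroup G, T ≤ M →
      (∀ m ∈ M, ∀ x ∈ T, m * x * m⁻¹ ∈ T) → IsPGroup t T → ∀ u ∈ T, y * u = u * y)
    (h2 : ∀ u v : G, orderOf u = p → orderOf v = p → u * v = v * u → v ∈ Subgroup.zpowers u) : Elc p (y * z) y := by
  intro M hM hs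
  obtain ⟨m, n, hm, hn⟩ := exists_pows hp hy hzz hp3 hyz
  have hyM : y ∈ M := hm ▸ M.pow_mem hs m
  have hzM : z ∈ M := hn ▸ M.pow_mem hs n
  have hy' : orderOf (⟨y, hyM⟩ : M) = p ^ 1 := by rw [Subgroup.orderOf_mk, hy, pow_one]
  have key : ∀ u : M, orderOf u = p → u ∈ Subgroup.zpowers (⟨y, hyM⟩ : M) := by
    refine solv_unique hp le_rfl hy' ?_ ?_
    · intro t ht htp T hTn hT u hu
      rw [Nat.sub_self, pow_zero, pow_one]
      apply Subtype.ext
      refine h1 M hM hyM hzM t ht htp (T.map M.subtype) (Subgroup.map_subtype_le T) ?_ (hT.map _) (u : G)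
        ⟨u, hu, rfl⟩
      rintro m hm _ ⟨x, hx, rfl⟩
      exact ⟨⟨m, hm⟩ * x * ⟨m, hm⟩⁻¹, hTn.conj_mem x hx _, rfl⟩
    · intro u v hu hv huv
      have h3 := h2 u v (by rw [Subgroup.orderOf_coe, hu]) (by rw [Subgroup.orderOf_coe, hv])
        (congrArg Subtype.val huv)
      obtain ⟨i, hi⟩ := Subgroup.mem_zpowers_iff.1 h3
      exact Subgroup.mem_zpowers_iff.2 ⟨i, Subtype.ext hi⟩
  intro u hu ho
  obtain ⟨i, hi⟩ := Subgroup.mem_zpowers_iff.1 (key ⟨u, hu⟩ (by rw [Subgroup.orderOf_mk, ho]))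
  exact Subgroup.mem_zpowers_iff.2 ⟨i, congrArg Subtype.val hi⟩

/-- the data of a row from `Elc` in a central extension -/
theorem row_of_elc3 {G : Type u} [Group G] [Finite G] {p : ℕ} (hp : p.Prime) (hp5 : 5 ≤ p) {y z : G}
    (hy : orderOf y = p) (hzz : z ^ 3 = 1) (hyz : y * z = z * y) (hel : Elc p (y * z) y)
    (hcz : ¬ p ∣ Nat.card (Subgroup.center G)) :
    orderOf (QuotientGroup.mk' (Subgroup.center G) y) = p ∧
      QuotientGroup.mk' (Subgroup.center G) y ∈ Subgroup.zpowers (QuotientGroup.mk' (Subgroup.center G) (y * z)) ∧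
      Uel p (QuotientGroup.mk' (Subgroup.center G) (y * z)) := by
  set π := QuotientGroup.mk' (Subgroup.center G) with hπ
  have hk : π.ker = Subgroup.center G := QuotientGroup.ker_mk' _
  have hk' : ¬ p ∣ Nat.card π.ker := by rwa [hk]
  have hks : Group.IsSolvable π.ker := by
    rw [hk]
    exact Group.isSolvable_of_comm fun a b => Subtype.ext ((Subgroup.mem_center_iff.1 b.2) a)
  have hel' : Elc p (π (y * z)) (π y) := hel.map hp π (QuotientGroup.mk'_surjective _) hks hk'
  have hoy : orderOf (π y) = p := by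
    have := orderOf_map (a := 1) hp (by rw [hy, pow_one]) π hk'
    rwa [pow_one] at this
  refine ⟨hoy, ?_, hel'.uel hp hoy⟩
  obtain ⟨m, n, hm, -⟩ := exists_pows hp hy hzz (by omega) hyz
  refine Subgroup.mem_zpowers_iff.2 ⟨(m : ℤ), ?_⟩
  rw [← map_zpow, zpow_natCast, hm]

end Cfsg.Agent.H99.AS
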